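import Cfsg.Agent.SquareRoots.Basic
import Cfsg.Agent.Characters.FixedPoints
import Cfsg.Agent.OddOrderChar.Reciprocity
import Cfsg.Agent.ThreeDegrees.Bad

/-!
# Symmetric and alternating squares, eigenvalues, decompositions
-/

set_option autoImplicit false
set_option linter.style.haveILetI false
set_option linter.unusedSectionVars false

namespace CfsgLib.SmallValue

open CfsgLib.Characters CfsgLib.SquareRoots
open scoped ComplexConjugate
open Matrix

universe u

variable {G : Type u} [Group G] [Fintype G]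

/-- The symmetric and the alternating part of a tensor square. -/
theorem isCharacter_sq_part {χ : G → ℂ} (h : Cfsg.IsCharacter G χ) {ε : ℂ} (hε : ε * ε = 1) :
    Cfsg.IsCharacter G (fun g => (χ g * χ g + ε * χ (g * g)) / 2) := by
  classical
  obtain ⟨n, ρ, rfl⟩ := h
  let S : Subrepresentation (sqRep ρ) :=
    { toSubmodule :=
        { carrier := {E | Eᵀ = ε • E}
          zero_mem' := by simp
          add_mem' := fun {a b} ha hb => by
            show (a + b)ᵀ = ε • (a + b)
            rw [Matrix.transpose_add, ha, hb, smul_add]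
          smul_mem' := fun c a ha => by
            show (c • a)ᵀ = ε • (c • a)
            rw [Matrix.transpose_smul, ha, smul_comm] }
      apply_mem_toSubmodule := fun g E hE => by
        show (sqRep ρ g E)ᵀ = ε • sqRep ρ g E
        rw [sqRep_apply, Matrix.transpose_mul, Matrix.transpose_mul, Matrix.transpose_transpose,
          show Eᵀ = ε • E from hE, Matrix.smul_mul, Matrix.mul_smul, Matrix.mul_assoc] }
  set P : Matrix (Fin n) (Fin n) ℂ →ₗ[ℂ] Matrix (Fin n) (Fin n) ℂ :=
    (2 : ℂ)⁻¹ • (LinearMap.id + ε • transposeLin n) with hP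
  have hPapp : ∀ E, P E = (2 : ℂ)⁻¹ • (E + ε • Eᵀ) := fun E => rfl
  have hPmem : ∀ E, P E ∈ S.toSubmodule := fun E => by
    show (P E)ᵀ = ε • P E
    rw [hPapp, Matrix.transpose_smul, Matrix.transpose_add, Matrix.transpose_smul,
      Matrix.transpose_transpose, smul_comm ε ((2 : ℂ)⁻¹), smul_add, smul_add, smul_smul ε ε, hε,
      one_smul, smul_add, add_comm]
  have hPid : ∀ E ∈ S.toSubmodule, P E = E := fun E hE => by
    rw [hPapp, show Eᵀ = ε • E from hE, smul_smul, hε, one_smul, ← two_smul ℂ E, smul_smul]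
    norm_num
  refine ⟨Module.finrank ℂ S.toSubmodule, transport S.toRepresentation
    (Module.finBasis ℂ S.toSubmodule).equivFun, funext fun g => ?_⟩
  rw [char_transport]
  let f : Matrix (Fin n) (Fin n) ℂ →ₗ[ℂ] S.toSubmodule :=
    LinearMap.codRestrict S.toSubmodule (P ∘ₗ sqRep ρ g) fun E => hPmem _
  have hfg : f ∘ₗ S.toSubmodule.subtype = S.toRepresentation g := by
    refine LinearMap.ext fun E => Subtype.ext ?_
    exact hPid _ (S.apply_mem_toSubmodule g E.2)
  rw [Representation.character, ← hfg, LinearMap.trace_comp_comm',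
    LinearMap.subtype_comp_codRestrict, hP, LinearMap.smul_comp, LinearMap.add_comp,
    LinearMap.id_comp, LinearMap.smul_comp, map_smul, map_add, map_smul, trace_transpose_sqRep,
    show LinearMap.trace ℂ _ (sqRep ρ g) = ρ.character g * ρ.character g from char_sqRep ρ g,
    smul_eq_mul, smul_eq_mul]
  ring

theorem isCharacter_sym {χ : G → ℂ} (h : Cfsg.IsCharacter G χ) :
    Cfsg.IsCharacter G (fun g => (χ g * χ g + χ (g * g)) / 2) := by
  simpa using isCharacter_sq_part h (one_mul (1 : ℂ))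

theorem isCharacter_alt {χ : G → ℂ} (h : Cfsg.IsCharacter G χ) :
    Cfsg.IsCharacter G (fun g => (χ g * χ g - χ (g * g)) / 2) := by
  simpa [sub_eq_add_neg] using isCharacter_sq_part h (show (-1 : ℂ) * -1 = 1 by norm_num)

/-- The eigenvalues of an element. -/
theorem exists_eigen {χ : G → ℂ} (h : Cfsg.IsCharacter G χ) {d : ℕ} (hd : χ 1 = d) (g : G) :
    ∃ μ : Fin d → ℂ, (∀ k : ℕ, χ (g ^ k) = ∑ i, μ i ^ k) ∧ (∀ i, μ i * conj (μ i) = 1) ∧
      (∀ i, μ i ^ orderOf g = 1) ∧ (commutator G = ⊤ → ∏ i, μ i = 1) := by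
  classical
  obtain ⟨n, ρ, rfl⟩ := h
  rw [Representation.char_one, Nat.cast_inj] at hd
  subst hd
  obtain ⟨b, μ, hb⟩ := exists_eigenbasis ρ g
  refine ⟨μ, fun k => ?_, fun i => ?_, fun i => (hb i).2, fun hperf => ?_⟩
  · have hk : ∀ i, ρ (g ^ k) (b i) = μ i ^ k • b i := by
      intro i
      induction k with
      | zero => simp
      | succ j ihj =>
        rw [pow_succ', map_mul, Module.End.mul_apply, ihj, map_smul, (hb i).1, smul_smul,
          ← pow_succ]
    rw [Representation.character, LinearMap.trace_eq_matrix_trace ℂ b, Matrix.trace]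
    refine Finset.sum_congr rfl fun i _ => ?_
    rw [Matrix.diag, LinearMap.toMatrix_apply, hk i]; simp
  · rw [Complex.mul_conj, Complex.normSq_eq_norm_sq,
      Complex.norm_eq_one_of_pow_eq_one (hb i).2 (orderOf_pos g).ne']
    norm_num
  · set δ : G →* ℂˣ := (LinearMap.det.comp ρ).toHomUnits with hδ
    have h1 : δ g = 1 :=
      MonoidHom.mem_ker.1 (Abelianization.commutator_subset_ker δ (hperf ▸ Subgroup.mem_top g))
    have h2 : LinearMap.det (ρ g) = 1 := by
      simpa [hδ, MonoidHom.coe_toHomUnits] using congrArg Units.val h1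
    rw [← h2, ← LinearMap.det_toMatrix b, show LinearMap.toMatrix b b (ρ g) = Matrix.diagonal μ from ?_,
      Matrix.det_diagonal]
    ext i j
    rw [LinearMap.toMatrix_apply, (hb j).1, map_smul, Module.Basis.repr_self, Matrix.diagonal_apply,
      Finsupp.smul_apply, Finsupp.single_apply, smul_eq_mul]
    rcases eq_or_ne i j with rfl | hne
    · simp
    · simp [hne, hne.symm]

/-- Squares in degree three. -/
theorem sq_three (hperf : commutator G = ⊤) {χ : G → ℂ} (h : Cfsg.IsCharacter G χ) (hd : χ 1 = 3)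
    (g : G) : χ (g * g) = χ g * χ g - 2 * conj (χ g) := by
  obtain ⟨μ, hp, hn, -, hdet⟩ := exists_eigen h (d := 3) (by exact_mod_cast hd) g
  have h1 := hp 1
  have h2 := hp 2
  have h3 := hdet hperf
  simp only [pow_one, pow_two, Fin.sum_univ_three] at h1 h2
  simp only [Fin.prod_univ_three] at h3
  have e0 : conj (μ 0) = μ 1 * μ 2 := by linear_combination (μ 1 * μ 2) * hn 0 - conj (μ 0) * h3
  have e1 : conj (μ 1) = μ 0 * μ 2 := by linear_combination (μ 0 * μ 2) * hn 1 - conj (μ 1) * h3
  have e2 : conj (μ 2) = μ 0 * μ 1 := by linear_combination (μ 0 * μ 1) * hn 2 - conj (μ 2) * h3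
  rw [h1, h2, map_add, map_add, e0, e1, e2]
  ring

/-- The exterior square in degree four is real, and its exterior square is `χ conj χ - 1`. -/
theorem alt_four (hperf : commutator G = ⊤) {χ : G → ℂ} (h : Cfsg.IsCharacter G χ) (hd : χ 1 = 4)
    (g : G) :
    conj ((χ g * χ g - χ (g * g)) / 2) = (χ g * χ g - χ (g * g)) / 2 ∧
      (((χ g * χ g - χ (g * g)) / 2) * ((χ g * χ g - χ (g * g)) / 2) -
        (χ (g * g) * χ (g * g) - χ (g * g * (g * g))) / 2) / 2 = χ g * conj (χ g) - 1 := by
  obtain ⟨μ, hp, hn, -, hdet⟩ := exists_eigen h (d := 4) (by exact_mod_cast hd) g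
  have h1 := hp 1
  have h2 := hp 2
  have h4 := hp 4
  have h3 := hdet hperf
  rw [show g ^ 4 = g * g * (g * g) by simp only [pow_succ, pow_zero, one_mul, mul_assoc]] at h4
  simp only [pow_one, pow_two, Fin.sum_univ_four] at h1 h2 h4
  simp only [Fin.prod_univ_four] at h3
  have e0 : conj (μ 0) = μ 1 * μ 2 * μ 3 := by
    linear_combination (μ 1 * μ 2 * μ 3) * hn 0 - conj (μ 0) * h3
  have e1 : conj (μ 1) = μ 0 * μ 2 * μ 3 := by
    linear_combination (μ 0 * μ 2 * μ 3) * hn 1 - conj (μ 1) * h3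
  have e2 : conj (μ 2) = μ 0 * μ 1 * μ 3 := by
    linear_combination (μ 0 * μ 1 * μ 3) * hn 2 - conj (μ 2) * h3
  have e3 : conj (μ 3) = μ 0 * μ 1 * μ 2 := by
    linear_combination (μ 0 * μ 1 * μ 2) * hn 3 - conj (μ 3) * h3
  constructor
  · rw [h1, h2]
    simp only [map_div₀, map_sub, map_mul, map_add, map_ofNat, e0, e1, e2, e3]
    linear_combination ((μ 0 * μ 1 + μ 0 * μ 2 + μ 0 * μ 3 + μ 1 * μ 2 + μ 1 * μ 3 + μ 2 * μ 3)) * h3
  · rw [h1, h2, h4]
    simp only [map_add, e0, e1, e2, e3]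
    linear_combination (-1 : ℂ) * h3

/-- Subtracting a constituent. -/
theorem split {ξ ψ : G → ℂ} (hξ : Cfsg.IsCharacter G ξ) (hψ : Cfsg.IsIrrCharacter G ψ)
    (hne : Cfsg.classInner ξ ψ ≠ 0) : Cfsg.IsCharacter G (ξ - ψ) := by
  classical
  refine isCharacter_of_classInner (fun g x => ?_) fun φ => ?_
  · simp only [Pi.sub_apply, isClassFunction_of_isCharacter hξ g x, isClassFunction_of_isIrr hψ g x]
  obtain ⟨m, hm⟩ := classInner_character_irr hξ φ.2
  rw [classInner_sub_left, hm]
  by_cases e : ψ = (φ : G → ℂ)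
  · subst e
    rw [classInner_isIrr_self φ.2]
    rw [hm, Nat.cast_ne_zero] at hne
    exact ⟨m - 1, by rw [Nat.cast_sub (Nat.one_le_iff_ne_zero.2 hne), Nat.cast_one]⟩
  · exact ⟨m, by rw [classInner_isIrr_ne hψ φ.2 e, sub_zero]⟩

theorem eq_zero_of_degree {ξ : G → ℂ} (hξ : Cfsg.IsCharacter G ξ) (h : ξ 1 = 0) : ξ = 0 := by
  classical
  choose c hc using fun φ : Cfsg.IrrCharacter G => classInner_character_irr hξ φ.2
  choose d hd0 hd using fun φ : Cfsg.IrrCharacter G => exists_degree_pos φ.2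
  have h1 : (∑ φ, c φ * d φ : ℕ) = 0 := by
    apply Nat.cast_injective (R := ℂ)
    rw [Nat.cast_zero, ← h, Nat.cast_sum]
    conv_rhs => rw [character_expansion hξ]
    rw [Finset.sum_apply]
    exact Finset.sum_congr rfl fun φ _ => by rw [Pi.smul_apply, smul_eq_mul, hc, hd, Nat.cast_mul]
  rw [character_expansion hξ]
  refine Finset.sum_eq_zero fun φ _ => ?_
  have h2 := Finset.sum_eq_zero_iff.1 h1 φ (Finset.mem_univ _)
  rcases Nat.mul_eq_zero.1 h2 with e | e
  · rw [hc, e, Nat.cast_zero, zero_smul]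
  · exact absurd e (hd0 φ).ne'

end CfsgLib.SmallValue
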