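import Mathlib

/-!
# Involutions of the alternating group of degree five
-/

set_option autoImplicit false

namespace CfsgLib.SmallValue

theorem alt5_centralizer : ∀ t : alternatingGroup (Fin 5), t ≠ 1 → t * t = 1 →
    (Finset.univ.filter fun x => x * t = t * x).card = 4 := by decide +kernel

theorem alt5_conj : ∀ s : alternatingGroup (Fin 5), s ≠ 1 → s * s = 1 →
    ∀ t : alternatingGroup (Fin 5), t ≠ 1 → t * t = 1 → ∃ x, x * s = t * x := by decide +kernel

set_option synthInstance.maxSize 2000 in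
set_option synthInstance.maxHeartbeats 200000 in
theorem alt5_four_group : ∀ t : alternatingGroup (Fin 5), t ≠ 1 → t * t = 1 →
    ∃ v : alternatingGroup (Fin 5), v ≠ 1 ∧ v * v = 1 ∧ v ≠ t ∧ v * t = t * v ∧
      ∀ x, x * t = t * x → x = 1 ∨ x = t ∨ x = v ∨ x = t * v := by decide +kernel

theorem alt5_pow_four : ∀ x : alternatingGroup (Fin 5), x ^ 4 = 1 → x * x = 1 := by decide +kernel

universe w

/-- What is needed about the quotient. -/
structure LikeAltFive (Q : Type w) [Group Q] : Prop where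
  card : Nat.card Q = 60
  centralizer : ∀ t : Q, t ≠ 1 → t * t = 1 → Nat.card (Subgroup.centralizer ({t} : Set Q)) = 4
  conj : ∀ s t : Q, s ≠ 1 → s * s = 1 → t ≠ 1 → t * t = 1 → IsConj s t
  four : ∀ t : Q, t ≠ 1 → t * t = 1 → ∃ v : Q, v ≠ 1 ∧ v * v = 1 ∧ v ≠ t ∧ v * t = t * v ∧
    ∀ x, x * t = t * x → x = 1 ∨ x = t ∨ x = v ∨ x = t * v
  pow_four : ∀ x : Q, x ^ 4 = 1 → x * x = 1
  iso : Nonempty (Q ≃* alternatingGroup (Fin 5))

theorem likeAltFive {Q : Type w} [Group Q] (e : Q ≃* alternatingGroup (Fin 5)) : LikeAltFive Q := by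
  have hinv : ∀ t : Q, t ≠ 1 → t * t = 1 → e t ≠ 1 ∧ e t * e t = 1 := fun t h1 h2 =>
    ⟨fun h => h1 (e.injective (h.trans (map_one e).symm)), by rw [← map_mul, h2, map_one]⟩
  refine ⟨?_, fun t h1 h2 => ?_, fun s t hs hs' ht ht' => ?_, fun t h1 h2 => ?_, fun x hx => ?_, ⟨e⟩⟩
  · rw [Nat.card_congr e.toEquiv, nat_card_alternatingGroup, Nat.card_fin]
    rfl
  · rw [← alt5_centralizer (e t) (hinv t h1 h2).1 (hinv t h1 h2).2, ← Fintype.card_subtype,
      ← Nat.card_eq_fintype_card]
    refine Nat.card_congr (e.toEquiv.subtypeEquiv fun x => ?_)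
    rw [Subgroup.mem_centralizer_singleton_iff]
    show x * t = t * x ↔ e x * e t = e t * e x
    rw [← map_mul, ← map_mul, e.injective.eq_iff]
  · obtain ⟨x, hx⟩ := alt5_conj (e s) (hinv s hs hs').1 (hinv s hs hs').2 (e t) (hinv t ht ht').1
      (hinv t ht ht').2
    refine isConj_iff.2 ⟨e.symm x, e.injective ?_⟩
    simp only [map_mul, map_inv, MulEquiv.apply_symm_apply, hx, mul_inv_cancel_right]
  · obtain ⟨v, hv1, hv2, hv3, hv4, hv5⟩ := alt5_four_group (e t) (hinv t h1 h2).1 (hinv t h1 h2).2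
    refine ⟨e.symm v, fun h => hv1 (e.symm.injective (h.trans (map_one _).symm)), ?_,
      fun h => hv3 (by rw [← h, MulEquiv.apply_symm_apply]), ?_, fun x hx => ?_⟩
    · rw [← map_mul, hv2, map_one]
    · exact e.injective (by simp only [map_mul, MulEquiv.apply_symm_apply, hv4])
    · rcases hv5 (e x) (by rw [← map_mul, hx, map_mul]) with h | h | h | h
      · exact Or.inl (e.injective (h.trans (map_one e).symm))
      · exact Or.inr (Or.inl (e.injective h))
      · exact Or.inr (Or.inr (Or.inl (by rw [← h, MulEquiv.symm_apply_apply])))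
      · exact Or.inr (Or.inr (Or.inr (e.injective (by rw [h, map_mul, MulEquiv.apply_symm_apply]))))
  · exact e.injective (by rw [map_mul, map_one]; exact alt5_pow_four (e x) (by rw [← map_pow, hx, map_one]))

end CfsgLib.SmallValue
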