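import Cfsg.Agent.SmallValue.Closure
import Cfsg.Agent.SmallValue.AltFive
import Cfsg.Agent.Classification.SimpleSixty

/-!
# The kernel of the characters of degree three, and the classes over involutions of the quotient
-/

set_option autoImplicit false
set_option linter.style.haveILetI false
set_option linter.unusedSectionVars false

namespace CfsgLib.SmallValue

open CfsgLib.Characters CfsgLib.OddOrderChar
open scoped ComplexConjugate

universe u

variable {G : Type u} [Group G] [Fintype G] {t : G}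

/-- The kernel of a character. -/
theorem exists_kernel {χ : G → ℂ} (h : Cfsg.IsCharacter G χ) :
    ∃ N : Subgroup G, N.Normal ∧ ∀ g, g ∈ N ↔ χ g = χ 1 := by
  obtain ⟨n, ρ, rfl⟩ := h
  refine ⟨MonoidHom.ker ρ, inferInstance, fun g => ?_⟩
  rw [MonoidHom.mem_ker, Representation.char_one, char_eq_finrank_iff]
  rfl

/-- An irreducible character is trivial on a normal subgroup or orthogonal to it. -/
theorem normal_part {ψ : G → ℂ} (hψ : Cfsg.IsIrrCharacter G ψ) (N : Subgroup G) [N.Normal]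
    [Fintype N] :
    (∀ n ∈ N, ψ n = ψ 1) ∨ Cfsg.classInner (fun h : N => ψ h) (fun _ => 1) = 0 := by
  refine or_iff_not_imp_right.2 fun hne n hn => ?_
  have h := clifford_restrict_invariant N hψ (isIrr_one (G := N)) (fun _ => rfl) hne
  exact (congrFun h ⟨n, hn⟩).trans (congrFun h 1).symm

variable (hG : Hyp G t)
include hG

/-- The possible values. -/
theorem value {ψ : G → ℂ} (hψ : Cfsg.IsIrrCharacter G ψ) (hne : ψ ≠ fun _ => 1) :
    ∃ d : ℕ, ψ 1 = d ∧ (ψ t = 0 ∨ (ψ t = (d : ℂ) - 4 ∧ 3 ≤ d)) := by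
  obtain ⟨d, hd0, hd⟩ := exists_degree_pos hψ
  refine ⟨d, hd, ?_⟩
  rcases hG.hyp ψ hψ hne with h | h
  · refine or_iff_not_imp_left.2 fun h0 => ⟨by linear_combination -h + hd, ?_⟩
    by_contra hlt
    rcases (show d = 1 ∨ d = 2 by omega) with rfl | rfl
    · exact hne (eq_one_of_full hG hψ (SameDegree.linear_commutator hψ (by exact_mod_cast hd)
        ((perfect hG) ▸ Subgroup.mem_top t)))
    · exact h0 (two_value hG hψ (by exact_mod_cast hd))
  · exact Or.inl h

/-- The terms of the column of the identity. -/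
theorem term {ψ : G → ℂ} (hψ : Cfsg.IsIrrCharacter G ψ) (hne : ψ ≠ fun _ => 1)
    (h3 : ¬(ψ 1 = 3 ∧ ψ t = -1)) :
    ∃ r : ℝ, 0 ≤ r ∧ ψ t * conj (ψ 1) = r ∧ (r = 0 → ψ t = 0) := by
  obtain ⟨d, hd, h | ⟨h, hd3⟩⟩ := value hG hψ hne
  · exact ⟨0, le_rfl, by rw [h, zero_mul, Complex.ofReal_zero], fun _ => h⟩
  · have h4 : 4 ≤ d := by
      by_contra hlt
      obtain rfl : d = 3 := by omega
      exact h3 ⟨by exact_mod_cast hd, by rw [h]; norm_num⟩
    have h4' : (0 : ℝ) ≤ (d : ℝ) - 4 := sub_nonneg.2 (by exact_mod_cast h4)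
    refine ⟨((d : ℝ) - 4) * d, mul_nonneg h4' (Nat.cast_nonneg _),
      by rw [h, hd, Complex.conj_natCast]; push_cast; ring, fun hr => ?_⟩
    rcases mul_eq_zero.1 hr with e | e
    · rw [h, show (d : ℂ) = 4 by rw [sub_eq_zero] at e; exact_mod_cast e, sub_self]
    · have : d = 0 := by exact_mod_cast e
      omega

/-- There is a character of degree three with value `-1`. -/
theorem exists_three : ∃ χ : G → ℂ, Cfsg.IsIrrCharacter G χ ∧ χ 1 = 3 ∧ χ t = -1 := by
  classical
  by_contra hno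
  push Not at hno
  have h := congrArg Complex.re
    (sum_irr_mul_conj_of_not_isConj (g := t) (h := 1) fun h => hG.ne (isConj_one_left.1 h))
  rw [Complex.re_sum, Complex.zero_re] at h
  refine (Finset.sum_pos' (fun φ _ => ?_)
    ⟨⟨fun _ => 1, isIrr_one⟩, Finset.mem_univ _, by simp⟩).ne' h
  by_cases hφ : (φ : G → ℂ) = fun _ => 1
  · simp [hφ]
  · obtain ⟨r, hr, e, -⟩ := term hG φ.2 hφ fun h3 => hno _ φ.2 h3.1 h3.2
    rw [e, Complex.ofReal_re]
    exact hr

/-- The quotient by the kernel of a character of degree three with value `-1`. -/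
theorem descend {χ : G → ℂ} (hχ : Cfsg.IsIrrCharacter G χ) (hd : χ 1 = 3) (hv : χ t = -1)
    {N : Subgroup G} [N.Normal] (hN : ∀ g, g ∈ N ↔ χ g = χ 1) :
    t ∉ N ∧ t * t ∈ N ∧ Nonempty (G ⧸ N ≃* alternatingGroup (Fin 5)) ∧ cj χ = χ ∧
      Cfsg.IsIrrCharacter G (five χ) ∧ five χ 1 = 5 ∧ ∀ g, five χ g = 5 → g ∈ N := by
  classical
  have ht : t ∉ N := fun h => by
    have := (hN t).1 h
    rw [hd, hv] at this
    norm_num at this
  have htt : t * t ∈ N := by
    rw [hN, sq_three (perfect hG) (isCharacter_of_isIrr hχ) hd t, hd, hv, map_neg, map_one]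
    norm_num
  letI : Fintype (G ⧸ N) := Fintype.ofFinite _
  obtain ⟨ψ, hψ, hψe⟩ := exists_irr_quotient N hχ fun n hn => (hN n).1 hn
  have hsur := QuotientGroup.mk'_surjective N
  have hG' : Hyp (G ⧸ N) (QuotientGroup.mk' N t) := by
    refine ⟨fun h => ht ((QuotientGroup.eq_one_iff t).1 h), fun φ hφ hne => ?_⟩
    have := hG.hyp _ (isIrr_comp (QuotientGroup.mk' N) hsur hφ) fun e => hne (funext fun q => by
      obtain ⟨g, rfl⟩ := hsur q
      exact congrFun e g)
    simpa using this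
  have ht' : QuotientGroup.mk' N t * QuotientGroup.mk' N t = 1 := by
    rw [← map_mul]
    exact (QuotientGroup.eq_one_iff _).2 htt
  have hψ1 : ψ 1 = 3 := (hψe 1).symm.trans hd
  have hfaith : ∀ q, ψ q = 3 → q = 1 := fun q hq => by
    obtain ⟨g, rfl⟩ := hsur q
    exact (QuotientGroup.eq_one_iff g).2 ((hN g).2 (by rw [hψe g, hd]; exact hq))
  obtain ⟨hcard, hsimp, hkF⟩ := sixty hG' ht' hψ hψ1 hfaith
  obtain ⟨hF, hF1⟩ := isIrr_five hG' ht' hψ hψ1
  have h5 : five χ = fun g => five ψ (QuotientGroup.mk' N g) := funext fun g => by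
    simp only [five_apply, hψe g]
    rfl
  refine ⟨ht, htt, ?_, funext fun g => ?_, ?_, ?_, fun g hg => ?_⟩
  · haveI := hsimp
    exact Classification.nonempty_equiv_alternating_five hcard
  · rw [cj_apply, hψe g]
    exact congrFun (three_real hG' ht' hψ hψ1) _
  · rw [h5]
    exact isIrr_comp _ hsur hF
  · rw [h5]
    simpa using hF1
  · rw [h5] at hg
    exact (QuotientGroup.eq_one_iff g).1 (hkF _ hg)

/-- The characters of degree three with value `-1` have the same kernel. -/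
theorem all_three {χ : G → ℂ} (hχ : Cfsg.IsIrrCharacter G χ) (hd : χ 1 = 3) (hv : χ t = -1)
    {N : Subgroup G} [N.Normal] (hN : ∀ g, g ∈ N ↔ χ g = χ 1)
    {φ : G → ℂ} (hφ : Cfsg.IsIrrCharacter G φ) (hφd : φ 1 = 3) (hφv : φ t = -1) {n : G}
    (hn : n ∈ N) : φ n = φ 1 := by
  classical
  by_cases hne : χ = φ
  · rw [← hne]; exact (hN n).1 hn
  obtain ⟨M, hMn, hM⟩ := exists_kernel (isCharacter_of_isIrr hφ)
  haveI := hMn
  obtain ⟨-, -, -, rχ, hA, hA1, -⟩ := descend hG hχ hd hv hN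
  obtain ⟨-, -, -, rφ, hB, hB1, hkB⟩ := descend hG hφ hφd hφv hM
  have hF : five χ = five φ := by
    by_contra hF
    have rχ' : ∀ g, conj (χ g) = χ g := fun g => congrFun rχ g
    have rφ' : ∀ g, conj (φ g) = φ g := fun g => congrFun rφ g
    have h1 : Cfsg.classInner (χ * φ) (χ * φ) = 1 := by
      rw [ip_eq (c := 1 + χ + five χ) (d := 1 + φ + five φ) fun g => by
        simp [five, rχ', rφ']; ring]
      simp only [classInner_add_left, classInner_add_right]
      rw [classInner_isIrr_self isIrr_one', ip_degree isIrr_one' hφ (by simp [hφd]),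
        ip_degree isIrr_one' hB (by rw [hB1, one_apply']; norm_num),
        ip_degree hχ isIrr_one' (by simp [hd]), classInner_isIrr_ne hχ hφ hne,
        ip_degree hχ hB (by rw [hB1, hd]; norm_num),
        ip_degree hA isIrr_one' (by rw [hA1, one_apply']; norm_num),
        ip_degree hA hφ (by rw [hA1, hφd]; norm_num), classInner_isIrr_ne hA hB hF]
      norm_num
    have hirr := isIrr_of_classInner_self
      (isCharacter_mul (isCharacter_of_isIrr hχ) (isCharacter_of_isIrr hφ)) h1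
    have h9 : (χ * φ) 1 = 9 := by simp [hd, hφd]; norm_num
    have hv9 : (χ * φ) t = 1 := by simp [hv, hφv]
    rcases hG.hyp _ hirr (ne_one_of_degree (d := 9) (by exact_mod_cast h9) (by norm_num)) with e | e
    · rw [h9, hv9] at e; norm_num at e
    · rw [hv9] at e; norm_num at e
  refine (hM n).1 (hkB n ?_)
  rw [← hF, five_apply, (hN n).1 hn, hd]
  norm_num

/-- Characters not trivial on the kernel vanish at `t`. -/
theorem vanish {χ : G → ℂ} (hχ : Cfsg.IsIrrCharacter G χ) (hd : χ 1 = 3) (hv : χ t = -1)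
    {N : Subgroup G} [N.Normal] (hN : ∀ g, g ∈ N ↔ χ g = χ 1)
    {ψ : G → ℂ} (hψ : Cfsg.IsIrrCharacter G ψ) (hne : ¬∀ n ∈ N, ψ n = ψ 1) : ψ t = 0 := by
  classical
  let T : Cfsg.IrrCharacter G → Prop := fun φ => ∀ n ∈ N, (φ : G → ℂ) n = (φ : G → ℂ) 1
  obtain ⟨htN, -⟩ := descend hG hχ hd hv hN
  -- the part trivial on the kernel sums to zero
  set ξ : G → ℂ := fun g => if g ∈ N then (N.index : ℂ) else 0 with hξ
  have hcl : Cfsg.IsClassFunction G ξ := fun g x => by
    simp only [hξ]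
    exact if_congr ⟨fun h => by simpa [mul_assoc] using ‹N.Normal›.conj_mem _ h x⁻¹,
      fun h => ‹N.Normal›.conj_mem _ h x⟩ rfl rfl
  have hinner : ∀ φ : Cfsg.IrrCharacter G,
      Cfsg.classInner ξ (φ : G → ℂ) = if T φ then conj ((φ : G → ℂ) 1) else 0 := fun φ => by
    have h1 : Cfsg.classInner ξ (φ : G → ℂ) =
        conj (Cfsg.classInner (fun h : N => (φ : G → ℂ) h) (fun _ => 1)) := by
      have hN0 : (Nat.card N : ℂ) ≠ 0 := Nat.cast_ne_zero.2 Nat.card_pos.ne'
      have hG0 : (Nat.card G : ℂ) ≠ 0 := Nat.cast_ne_zero.2 Nat.card_pos.ne'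
      have hi : (N.index : ℂ) = Nat.card G / Nat.card N := by
        rw [eq_div_iff hN0, ← Nat.cast_mul, mul_comm, N.card_mul_index]
      simp only [Cfsg.classInner, hξ, map_mul, map_inv₀, map_sum, map_natCast, map_one, mul_one,
        ite_mul, zero_mul]
      rw [← Finset.sum_filter, Finset.sum_subtype (p := fun g => g ∈ N) _ (fun g => by simp),
        ← Finset.mul_sum, hi, ← mul_assoc]
      congr 1
      field_simp
    rw [h1]
    split_ifs with hT
    · rw [show (fun h : N => (φ : G → ℂ) h) = (φ : G → ℂ) 1 • (fun _ : N => (1 : ℂ)) from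
        funext fun h => by simp [hT h h.2], classInner_smul_left, classInner_isIrr_self isIrr_one,
        mul_one]
    · rw [(normal_part φ.2 N).resolve_left hT, map_zero]
  have hS : ∑ φ : Cfsg.IrrCharacter G,
      (if T φ then (φ : G → ℂ) t * conj ((φ : G → ℂ) 1) else 0) = 0 := by
    have := congrFun (classFunction_expansion hcl) t
    rw [show ξ t = 0 from if_neg htN, Finset.sum_apply] at this
    refine (Finset.sum_congr rfl fun φ _ => ?_).trans this.symm
    rw [Pi.smul_apply, hinner φ, smul_eq_mul, ite_mul, zero_mul, mul_comm]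
  have hU : ∑ φ : Cfsg.IrrCharacter G,
      (if T φ then 0 else (φ : G → ℂ) t * conj ((φ : G → ℂ) 1)) = 0 := by
    have hall := sum_irr_mul_conj_of_not_isConj (g := t) (h := 1) fun h => hG.ne (isConj_one_left.1 h)
    rw [Finset.sum_congr rfl (g := fun φ : Cfsg.IrrCharacter G => (φ : G → ℂ) t * conj ((φ : G → ℂ) 1) -
      if T φ then (φ : G → ℂ) t * conj ((φ : G → ℂ) 1) else 0) fun φ _ => by split_ifs <;> simp,
      Finset.sum_sub_distrib, hall, hS, sub_zero]
  have hterm : ∀ φ : Cfsg.IrrCharacter G, ¬T φ → ∃ r : ℝ, 0 ≤ r ∧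
      (φ : G → ℂ) t * conj ((φ : G → ℂ) 1) = r ∧ (r = 0 → (φ : G → ℂ) t = 0) := fun φ hT =>
    term hG φ.2 (fun e => hT fun n _ => by simp [e])
      fun h3 => hT fun n hn => all_three hG hχ hd hv hN φ.2 h3.1 h3.2 hn
  have hre := congrArg Complex.re hU
  rw [Complex.re_sum, Complex.zero_re, Finset.sum_eq_zero_iff_of_nonneg fun φ _ => by
    split_ifs with h
    · simp
    · obtain ⟨r, hr, e, -⟩ := hterm φ h
      rw [e, Complex.ofReal_re]
      exact hr] at hre
  obtain ⟨r, -, e, hr0⟩ := hterm ⟨ψ, hψ⟩ hne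
  refine hr0 ?_
  have h := hre ⟨ψ, hψ⟩ (Finset.mem_univ _)
  rw [if_neg (show ¬T ⟨ψ, hψ⟩ from hne), e, Complex.ofReal_re] at h
  exact h

/-- The normal subgroup and the classes over the involutions of the quotient. -/
theorem centre_data : ∃ N : Subgroup G, ∃ _ : N.Normal, t ∉ N ∧ t * t ∈ N ∧
    LikeAltFive (G ⧸ N) ∧ ∀ g : G, g ∉ N → g * g ∈ N → IsConj t g := by
  classical
  obtain ⟨χ, hχ, hd, hv⟩ := exists_three hG
  obtain ⟨N, hNn, hN⟩ := exists_kernel (isCharacter_of_isIrr hχ)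
  haveI := hNn
  obtain ⟨ht, htt, ⟨e⟩, -⟩ := descend hG hχ hd hv hN
  have hQ := likeAltFive e
  refine ⟨N, hNn, ht, htt, hQ, fun g hg hgg => ?_⟩
  have hinv : ∀ x : G, x ∉ N → x * x ∈ N →
      QuotientGroup.mk' N x ≠ 1 ∧ QuotientGroup.mk' N x * QuotientGroup.mk' N x = 1 := fun x h h' =>
    ⟨fun e => h ((QuotientGroup.eq_one_iff x).1 e),
      by rw [← map_mul]; exact (QuotientGroup.eq_one_iff _).2 h'⟩
  obtain ⟨q, hq⟩ := isConj_iff.1 (hQ.conj _ _ (hinv g hg hgg).1 (hinv g hg hgg).2 (hinv t ht htt).1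
    (hinv t ht htt).2)
  obtain ⟨c, rfl⟩ := QuotientGroup.mk'_surjective N q
  refine IsConj.trans ?_ (isConj_iff.2 ⟨c, rfl⟩).symm
  rw [← map_inv, ← map_mul, ← map_mul] at hq
  by_contra hne
  have h := sum_irr_mul_conj_of_not_isConj hne
  rw [Finset.sum_congr rfl (g := fun φ : Cfsg.IrrCharacter G => (φ : G → ℂ) t * conj ((φ : G → ℂ) t))
      fun φ _ => ?_, sum_irr_mul_conj_of_isConj (IsConj.refl t)] at h
  · exact Nat.cast_ne_zero.2 Nat.card_pos.ne' h
  · by_cases hT : ∀ n ∈ N, (φ : G → ℂ) n = (φ : G → ℂ) 1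
    · obtain ⟨φ', -, hφ'⟩ := exists_irr_quotient N φ.2 hT
      rw [hφ' (c * g * c⁻¹), hφ' t]
      exact congrArg (fun q => φ' _ * conj (φ' q)) hq
    · rw [vanish hG hχ hd hv hN φ.2 hT, zero_mul, zero_mul]

end CfsgLib.SmallValue
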