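import Cfsg.Prelude.Def_CaseTheorems
import Cfsg.Agent.SmallValue.AltFive
import Cfsg.Agent.PLocal.Cores
import Cfsg.Agent.RegularLinear.Basic
import Cfsg.Agent.Perm.RegularLinearQuat

/-!
# A normal subgroup with quotient `A₅` over whose involutions lies a single class
-/

set_option autoImplicit false
set_option linter.style.haveILetI false
set_option linter.unusedSectionVars false

namespace CfsgLib.SmallValue

universe w

variable {G : Type w} [Group G] [Finite G] {t : G} {N : Subgroup G} [N.Normal]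

/-- A fixed-point-free involutive conjugation inverts. -/
theorem inverts_of_fixedPointFree (H : Subgroup G) (s : G) (hnorm : ∀ h ∈ H, s * h * s⁻¹ ∈ H)
    (htwo : ∀ h ∈ H, s * (s * h * s⁻¹) * s⁻¹ = h)
    (hfpf : ∀ h ∈ H, s * h * s⁻¹ = h → h = 1) : ∀ h ∈ H, s * h * s⁻¹ = h⁻¹ := by
  let f : H → H := fun x => ⟨x.1⁻¹ * (s * x.1 * s⁻¹), H.mul_mem (H.inv_mem x.2) (hnorm x.1 x.2)⟩
  have hinj : Function.Injective f := by
    intro x y h
    have e : x.1⁻¹ * (s * x.1 * s⁻¹) = y.1⁻¹ * (s * y.1 * s⁻¹) := congrArg Subtype.val h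
    have e' : s * (y.1 * x.1⁻¹) * s⁻¹ = y.1 * x.1⁻¹ :=
      calc s * (y.1 * x.1⁻¹) * s⁻¹ = y.1 * (y.1⁻¹ * (s * y.1 * s⁻¹)) * (s * x.1 * s⁻¹)⁻¹ := by group
        _ = y.1 * (x.1⁻¹ * (s * x.1 * s⁻¹)) * (s * x.1 * s⁻¹)⁻¹ := by rw [e]
        _ = y.1 * x.1⁻¹ := by group
    exact (Subtype.ext (mul_inv_eq_one.1 (hfpf _ (H.mul_mem y.2 (H.inv_mem x.2)) e'))).symm
  intro h hh
  obtain ⟨x, hx⟩ := Finite.surjective_of_injective hinj ⟨h, hh⟩
  obtain rfl : x.1⁻¹ * (s * x.1 * s⁻¹) = h := congrArg Subtype.val hx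
  calc s * (x.1⁻¹ * (s * x.1 * s⁻¹)) * s⁻¹ = (s * x.1 * s⁻¹)⁻¹ * (s * (s * x.1 * s⁻¹) * s⁻¹) := by
        group
    _ = (x.1⁻¹ * (s * x.1 * s⁻¹))⁻¹ := by rw [htwo x.1 x.2]; group

/-- The hypotheses of the group theoretic part. -/
structure Over (t : G) (N : Subgroup G) [N.Normal] : Prop where
  notMem : t ∉ N
  sqMem : t * t ∈ N
  quot : LikeAltFive (G ⧸ N)
  conj : ∀ g : G, g ∉ N → g * g ∈ N → IsConj t g

variable (hO : Over t N)
include hO

theorem Over.mk_inv {g : G} (h : g ∉ N) (h' : g * g ∈ N) :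
    QuotientGroup.mk' N g ≠ 1 ∧ QuotientGroup.mk' N g * QuotientGroup.mk' N g = 1 :=
  ⟨fun e => h ((QuotientGroup.eq_one_iff g).1 e),
    by rw [← map_mul]; exact (QuotientGroup.eq_one_iff _).2 h'⟩

theorem Over.card_eq : Nat.card G = 60 * Nat.card N := by
  rw [Subgroup.card_eq_card_quotient_mul_card_subgroup N, hO.quot.card]

theorem Over.card_preimage : Nat.card ((Subgroup.centralizer
    ({QuotientGroup.mk' N t} : Set (G ⧸ N))).comap (QuotientGroup.mk' N)) = 4 * Nat.card N := by
  set C := Subgroup.centralizer ({QuotientGroup.mk' N t} : Set (G ⧸ N)) with hC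
  have h1 := C.card_mul_index
  rw [hC, hO.quot.centralizer _ (hO.mk_inv hO.notMem hO.sqMem).1 (hO.mk_inv hO.notMem hO.sqMem).2,
    hO.quot.card, ← hC] at h1
  have h2 := (C.comap (QuotientGroup.mk' N)).card_mul_index
  rw [Subgroup.index_comap_of_surjective C (QuotientGroup.mk'_surjective N),
    show C.index = 15 by omega, hO.card_eq] at h2
  omega

theorem Over.card_centralizer : Nat.card (Subgroup.centralizer ({t} : Set G)) = 4 := by
  classical
  set K := (Subgroup.centralizer ({QuotientGroup.mk' N t} : Set (G ⧸ N))).comap (QuotientGroup.mk' N)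
  have hK : Nat.card K = 4 * Nat.card N := hO.card_preimage
  have hmem : ∀ x : G, x ∈ K ↔ QuotientGroup.mk' N (x * t * x⁻¹) = QuotientGroup.mk' N t := fun x => by
    rw [Subgroup.mem_comap, Subgroup.mem_centralizer_singleton_iff, map_mul, map_mul, map_inv,
      mul_inv_eq_iff_eq_mul]
  let f : K → {g : G // QuotientGroup.mk' N g = QuotientGroup.mk' N t} := fun x =>
    ⟨x.1 * t * x.1⁻¹, (hmem x.1).1 x.2⟩
  have hfib : ∀ g, Nat.card {x : K // f x = g} = Nat.card (Subgroup.centralizer ({t} : Set G)) := by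
    rintro ⟨g, hg⟩
    have h1 := hO.mk_inv hO.notMem hO.sqMem
    obtain ⟨c, hc⟩ := isConj_iff.1 (hO.conj g
      (fun h => h1.1 (hg.symm.trans ((QuotientGroup.eq_one_iff g).2 h)))
      ((QuotientGroup.eq_one_iff _).1 (show QuotientGroup.mk' N (g * g) = 1 by
        rw [map_mul, hg]; exact h1.2)))
    refine Nat.card_congr ⟨fun x => ⟨c⁻¹ * x.1.1, ?_⟩, fun y => ⟨⟨c * y.1, ?_⟩, ?_⟩,
      fun x => ?_, fun y => ?_⟩
    · rw [Subgroup.mem_centralizer_singleton_iff]
      have hx : x.1.1 * t * x.1.1⁻¹ = g := congrArg Subtype.val x.2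
      calc c⁻¹ * x.1.1 * t = c⁻¹ * (x.1.1 * t * x.1.1⁻¹) * x.1.1 := by group
        _ = t * (c⁻¹ * x.1.1) := by
          rw [hx, show c⁻¹ * g = t * c⁻¹ from (congrArg (c⁻¹ * ·) hc.symm).trans (by group)]
          group
    · rw [hmem, show c * y.1 * t * (c * y.1)⁻¹ = c * (y.1 * t) * y.1⁻¹ * c⁻¹ by group,
        Subgroup.mem_centralizer_singleton_iff.1 y.2]
      rw [show c * (t * y.1) * y.1⁻¹ * c⁻¹ = c * t * c⁻¹ by group, hc, hg]
    · refine Subtype.ext ?_
      show c * y.1 * t * (c * y.1)⁻¹ = g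
      rw [show c * y.1 * t * (c * y.1)⁻¹ = c * (y.1 * t) * y.1⁻¹ * c⁻¹ by group,
        Subgroup.mem_centralizer_singleton_iff.1 y.2]
      rw [← hc]; group
    · exact Subtype.ext (Subtype.ext (mul_inv_cancel_left c x.1.1))
    · exact Subtype.ext (inv_mul_cancel_left c y.1)
  have hcos : Nat.card {g : G // QuotientGroup.mk' N g = QuotientGroup.mk' N t} = Nat.card N := by
    refine Nat.card_congr ⟨fun g => ⟨t⁻¹ * g.1, (QuotientGroup.eq_one_iff _).1
      (show QuotientGroup.mk' N (t⁻¹ * g.1) = 1 by rw [map_mul, map_inv, g.2, inv_mul_cancel])⟩,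
      fun n => ⟨t * n.1, by rw [map_mul, show QuotientGroup.mk' N n.1 = 1 from
        (QuotientGroup.eq_one_iff _).2 n.2, mul_one]⟩,
      fun g => Subtype.ext (mul_inv_cancel_left t g.1), fun n => Subtype.ext (inv_mul_cancel_left t n.1)⟩
  letI := Fintype.ofFinite {g : G // QuotientGroup.mk' N g = QuotientGroup.mk' N t}
  have h := Nat.card_congr (Equiv.sigmaFiberEquiv f).symm
  rw [Nat.card_sigma, Finset.sum_congr rfl (fun g _ => hfib g), Finset.sum_const, smul_eq_mul,
    Finset.card_univ, ← Nat.card_eq_fintype_card, hcos, hK, mul_comm 4] at h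
  exact (Nat.eq_of_mul_eq_mul_left Nat.card_pos h).symm

/-- What all the lifts of involutions have in common. -/
theorem Over.lift {g : G} (h : g ∉ N) (h' : g * g ∈ N) :
    orderOf g = orderOf t ∧ Nat.card (Subgroup.centralizer ({g} : Set G)) = 4 := by
  obtain ⟨c, rfl⟩ := isConj_iff.1 (hO.conj g h h')
  refine ⟨(MulAut.conj c).orderOf_eq t, ?_⟩
  rw [← hO.card_centralizer]
  refine (Nat.card_congr ((MulAut.conj c).toEquiv.subtypeEquiv fun x => ?_)).symm
  rw [Subgroup.mem_centralizer_singleton_iff]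
  show x * t = t * x ↔ MulAut.conj c x ∈ Subgroup.centralizer {c * t * c⁻¹}
  rw [Subgroup.mem_centralizer_singleton_iff]
  show x * t = t * x ↔ MulAut.conj c x * MulAut.conj c t = MulAut.conj c t * MulAut.conj c x
  rw [← map_mul, ← map_mul, (MulAut.conj c).injective.eq_iff]

theorem Over.orderOf_t : orderOf t = 2 ∨ orderOf t = 4 := by
  have h : orderOf t ∣ 4 := hO.card_centralizer ▸
    Subgroup.orderOf_dvd_natCard _ (Subgroup.mem_centralizer_singleton_iff.2 rfl)
  have h1 : orderOf t ≠ 1 := fun e => hO.notMem (orderOf_eq_one_iff.1 e ▸ N.one_mem)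
  have hle := Nat.le_of_dvd (by norm_num) h
  have hpos := orderOf_pos t
  interval_cases orderOf t <;> omega

theorem Over.core_le : Cfsg.oddCore G ≤ N := by
  obtain ⟨e⟩ := hO.quot.iso
  haveI : IsSimpleGroup (alternatingGroup (Fin 5)) :=
    alternatingGroup.isSimpleGroup (by rw [Nat.card_fin])
  have hbot : Cfsg.pPrimeCore 2 (alternatingGroup (Fin 5)) = ⊥ := by
    refine (inferInstance : (Cfsg.pPrimeCore 2 (alternatingGroup (Fin 5))).Normal).eq_bot_or_eq_top.resolve_right
      fun h => ?_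
    have hc := CfsgLib.PLocal.coprime_card_pPrimeCore 2 (alternatingGroup (Fin 5))
    rw [h, Subgroup.card_top, nat_card_alternatingGroup, Nat.card_fin] at hc
    norm_num [Nat.factorial] at hc
  intro x hx
  have h1 := CfsgLib.PLocal.map_pPrimeCore_le_of_surjective (p := 2)
    (f := e.toMonoidHom.comp (QuotientGroup.mk' N))
    (e.surjective.comp (QuotientGroup.mk'_surjective N)) (Subgroup.mem_map_of_mem _ hx)
  rw [hbot, Subgroup.mem_bot] at h1
  exact (QuotientGroup.eq_one_iff x).1 (e.injective (h1.trans (map_one e).symm))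

/-- The case of an involution. -/
theorem Over.two (ht : orderOf t = 2) :
    Cfsg.oddCore G = ⊥ ∧ Nonempty (G ≃* alternatingGroup (Fin 5)) := by
  classical
  have hsq : ∀ g : G, g ∉ N → g * g ∈ N → g * g = 1 := fun g h h' => by
    rw [← pow_two, ← ht, ← (hO.lift h h').1, pow_orderOf_eq_one]
  have hinv : ∀ g : G, g ∉ N → g * g ∈ N → ∀ n ∈ N, g * n * g⁻¹ = n⁻¹ := fun g h h' n hn => by
    have h1 : g * n ∉ N := fun e => h (by simpa using N.mul_mem e (N.inv_mem hn))
    have h2 : g * n * (g * n) ∈ N := by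
      have e : QuotientGroup.mk' N (g * n * (g * n)) = 1 := by
        rw [map_mul, map_mul, show QuotientGroup.mk' N n = 1 from (QuotientGroup.eq_one_iff _).2 hn,
          mul_one]
        exact (hO.mk_inv h h').2
      exact (QuotientGroup.eq_one_iff _).1 e
    have e := hsq _ h1 h2
    rw [show g⁻¹ = g from inv_eq_of_mul_eq_one_right (hsq g h h'), eq_inv_iff_mul_eq_one, mul_assoc,
      mul_assoc, ← mul_assoc]
    exact e
  obtain ⟨vq, hv1, hv2, hv3, hv4, hv5⟩ :=
    hO.quot.four _ (hO.mk_inv hO.notMem hO.sqMem).1 (hO.mk_inv hO.notMem hO.sqMem).2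
  obtain ⟨v, rfl⟩ := QuotientGroup.mk'_surjective N vq
  have hv : v ∉ N := fun h => hv1 ((QuotientGroup.eq_one_iff v).2 h)
  have hvv : v * v ∈ N := (QuotientGroup.eq_one_iff _).1
    (show QuotientGroup.mk' N (v * v) = 1 by rw [map_mul]; exact hv2)
  have htv : t * v ∉ N := fun h => hv3 (by
    have e : QuotientGroup.mk' N t * QuotientGroup.mk' N v = 1 := by
      rw [← map_mul]; exact (QuotientGroup.eq_one_iff _).2 h
    rw [← inv_eq_of_mul_eq_one_right e, inv_eq_of_mul_eq_one_right (hO.mk_inv hO.notMem hO.sqMem).2])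
  have htvv : t * v * (t * v) ∈ N := (QuotientGroup.eq_one_iff _).1
    (show QuotientGroup.mk' N (t * v * (t * v)) = 1 by
      rw [map_mul, map_mul, mul_assoc, ← mul_assoc (QuotientGroup.mk' N v), hv4, mul_assoc, hv2,
        mul_one]
      exact (hO.mk_inv hO.notMem hO.sqMem).2)
  have hNC : ∀ n ∈ N, n * t = t * n := fun n hn => by
    have h1 := hinv _ htv htvv n hn
    have h2 : t * v * n * (t * v)⁻¹ = n := by
      rw [show t * v * n * (t * v)⁻¹ = t * (v * n * v⁻¹) * t⁻¹ by group, hinv v hv hvv n hn,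
        hinv t hO.notMem hO.sqMem _ (N.inv_mem hn), inv_inv]
    have h3 := hinv t hO.notMem hO.sqMem n hn
    rw [h1.symm.trans h2] at h3
    exact (mul_inv_eq_iff_eq_mul.1 h3).symm
  have hcomm : v * t = t * v := by
    have e := hsq _ htv htvv
    have e1 := hsq _ hO.notMem hO.sqMem
    have e2 := hsq _ hv hvv
    calc v * t = (t * v)⁻¹ := by
          rw [mul_inv_rev, inv_eq_of_mul_eq_one_right e1, inv_eq_of_mul_eq_one_right e2]
      _ = t * v := inv_eq_of_mul_eq_one_right e
  set C := Subgroup.centralizer ({t} : Set G) with hC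
  have hyC : ∀ y : G, y * t = t * y → y ∈ C := fun y h => Subgroup.mem_centralizer_singleton_iff.2 h
  have hle : (Subgroup.centralizer ({QuotientGroup.mk' N t} : Set (G ⧸ N))).comap (QuotientGroup.mk' N)
      ≤ C := by
    intro x hx
    rw [Subgroup.mem_comap, Subgroup.mem_centralizer_singleton_iff] at hx
    have key : ∀ y : G, y * t = t * y → QuotientGroup.mk' N x = QuotientGroup.mk' N y → x ∈ C :=
      fun y hy e => by
        have hn : y⁻¹ * x ∈ N := (QuotientGroup.eq_one_iff _).1
          (show QuotientGroup.mk' N (y⁻¹ * x) = 1 by rw [map_mul, map_inv, e, inv_mul_cancel])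
        have := C.mul_mem (hyC y hy) (hyC _ (hNC _ hn))
        rwa [mul_inv_cancel_left] at this
    rcases hv5 _ hx with e | e | e | e
    · exact key 1 (by rw [one_mul, mul_one]) (e.trans (map_one _).symm)
    · exact key t rfl e
    · exact key v hcomm e
    · exact key (t * v) (by rw [mul_assoc, hcomm]) (e.trans (map_mul _ _ _).symm)
  have hN : N = ⊥ := Subgroup.card_eq_one.1 (by
    have h := Subgroup.card_le_of_le hle
    rw [hO.card_preimage, hC, hO.card_centralizer] at h
    have := Nat.card_pos (α := N)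
    omega)
  refine ⟨le_bot_iff.1 (hN ▸ hO.core_le), ?_⟩
  obtain ⟨e⟩ := hO.quot.iso
  exact ⟨((QuotientGroup.quotientBot (G := G)).symm.trans
    (QuotientGroup.quotientMulEquivOfEq hN.symm)).trans e⟩

/-- The case of an element of order four. -/
theorem Over.four (ht : orderOf t = 4) :
    IsMulCommutative ↥(Cfsg.oddCore G) ∧ Nat.card (G ⧸ Cfsg.oddCore G) = 120 ∧
      ¬ Group.IsSolvable (G ⧸ Cfsg.oddCore G) ∧
      ∀ P : Sylow 2 (G ⧸ Cfsg.oddCore G), Nonempty ((P : Subgroup (G ⧸ Cfsg.oddCore G)) ≃* QuaternionGroup 2) := by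
  classical
  haveI : Fact (Nat.Prime 2) := ⟨Nat.prime_two⟩
  set z := t * t with hz
  have hz1 : z ≠ 1 := fun e => by
    have := orderOf_dvd_of_pow_eq_one (show t ^ 2 = 1 by rw [pow_two]; exact e)
    rw [ht] at this
    norm_num at this
  have hzz : z * z = 1 := by
    rw [hz, ← pow_two, ← pow_two, ← pow_mul, show 2 * 2 = orderOf t by rw [ht], pow_orderOf_eq_one]
  -- the involutions of the centralisers of the lifts
  have huniq : ∀ g : G, g ∉ N → g * g ∈ N → ∀ c : G, c * g = g * c → c * c = 1 → c = 1 ∨ c = g * g := by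
    intro g h h' c hcg hcc
    obtain ⟨ho, hcard⟩ := hO.lift h h'
    rw [ht] at ho
    have hle : Subgroup.zpowers g ≤ Subgroup.centralizer ({g} : Set G) :=
      Subgroup.zpowers_le.2 (Subgroup.mem_centralizer_singleton_iff.2 rfl)
    have heq := Subgroup.eq_of_le_of_card_ge hle (by rw [Nat.card_zpowers, ho, hcard])
    have hc : c ∈ Subgroup.zpowers g := heq ▸ Subgroup.mem_centralizer_singleton_iff.2 hcg
    rw [(isOfFinOrder_of_finite g).mem_zpowers_iff_mem_range_orderOf, ho] at hc
    obtain ⟨k, hk, rfl⟩ := Finset.mem_image.1 hc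
    have hk4 : k < 4 := Finset.mem_range.1 hk
    rw [← pow_add] at hcc
    have hd := orderOf_dvd_of_pow_eq_one hcc
    rw [ho] at hd
    rcases (show k = 0 ∨ k = 2 by omega) with rfl | rfl
    · exact Or.inl (pow_zero g)
    · exact Or.inr (pow_two g)
  -- a Sylow subgroup
  obtain ⟨T, hT⟩ := (IsPGroup.of_card (p := 2) (n := 2)
    (show Nat.card (Subgroup.zpowers t) = 2 ^ 2 by rw [Nat.card_zpowers, ht]; rfl)).exists_le_sylow
  have htT : t ∈ (T : Subgroup G) := hT (Subgroup.mem_zpowers t)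
  have hTsq : ∀ x ∈ (T : Subgroup G), x * x ∈ N := fun x hx => by
    have h1 : ∀ y : G ⧸ N, orderOf y ∣ 60 := fun y => hO.quot.card ▸ orderOf_dvd_natCard y
    obtain ⟨k, hk⟩ := T.2 ⟨x, hx⟩
    have hxk : x ^ 2 ^ k = 1 := congrArg Subtype.val hk
    have h2 : orderOf (QuotientGroup.mk' N x) ∣ 2 ^ k :=
      orderOf_dvd_of_pow_eq_one (by rw [← map_pow, hxk, map_one])
    obtain ⟨j, -, hj⟩ := (Nat.dvd_prime_pow Nat.prime_two).1 h2
    have hj2 : j ≤ 2 := by
      by_contra hlt
      have := (pow_dvd_pow 2 (show 3 ≤ j by omega)).trans (hj ▸ h1 (QuotientGroup.mk' N x))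
      norm_num at this
    refine (QuotientGroup.eq_one_iff _).1 ?_
    show QuotientGroup.mk' N (x * x) = 1
    rw [map_mul]
    exact hO.quot.pow_four _ (orderOf_dvd_iff_pow_eq_one.1 (hj ▸ (pow_dvd_pow 2 hj2)))
  -- a central involution
  haveI : Nontrivial (T : Subgroup G) :=
    ⟨⟨⟨t, htT⟩, 1, fun e => hO.notMem (by rw [show t = 1 from congrArg Subtype.val e]; exact N.one_mem)⟩⟩
  haveI := IsPGroup.center_nontrivial (p := 2) T.2
  obtain ⟨c₀, hc₀⟩ := exists_prime_orderOf_dvd_card' (G := Subgroup.center (T : Subgroup G)) 2 (by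
    obtain ⟨n, hn⟩ := (T.2.to_subgroup (Subgroup.center (T : Subgroup G))).exists_card_eq
    rw [hn]
    refine dvd_pow_self 2 ?_
    rintro rfl
    have := Finite.one_lt_card (α := Subgroup.center (T : Subgroup G))
    omega)
  have hcsq : (c₀.1.1 : G) * c₀.1.1 = 1 := by
    have : c₀ ^ 2 = 1 := (congrArg (c₀ ^ ·) hc₀.symm).trans (pow_orderOf_eq_one c₀)
    rw [pow_two] at this
    exact congrArg (fun x => (x.1.1 : G)) this
  have hcne : (c₀.1.1 : G) ≠ 1 := fun e => by
    rw [show c₀ = 1 from Subtype.ext (Subtype.ext e), orderOf_one] at hc₀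
    norm_num at hc₀
  have hTsquare : ∀ s ∈ (T : Subgroup G), s ∉ N → s * s = z := by
    have key : ∀ s ∈ (T : Subgroup G), s ∉ N → (c₀.1.1 : G) = s * s := fun s hs hsN =>
      (huniq s hsN (hTsq s hs) _
        (congrArg Subtype.val (Subgroup.mem_center_iff.1 c₀.2 ⟨s, hs⟩)).symm hcsq).resolve_left hcne
    exact fun s hs hsN => (key s hs hsN).symm.trans (key t htT hO.notMem)
  -- a second element
  obtain ⟨v, hvT, hv, htv⟩ : ∃ v ∈ (T : Subgroup G), v ∉ N ∧ t * v ∉ N := by
    by_contra hno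
    push Not at hno
    set Z := (Subgroup.zpowers (QuotientGroup.mk' N t)).comap (QuotientGroup.mk' N) with hZ
    have hle : (T : Subgroup G) ≤ Z := fun x hx => by
      rw [hZ, Subgroup.mem_comap]
      by_cases hxN : x ∈ N
      · rw [show QuotientGroup.mk' N x = 1 from (QuotientGroup.eq_one_iff x).2 hxN]
        exact one_mem _
      · have h2 : QuotientGroup.mk' N t * QuotientGroup.mk' N x = 1 := by
          rw [← map_mul]; exact (QuotientGroup.eq_one_iff _).2 (hno x hx hxN)
        rw [← inv_eq_of_mul_eq_one_right h2]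
        exact inv_mem (Subgroup.mem_zpowers _)
    have hd := Subgroup.index_dvd_of_le hle
    have hi := (Subgroup.zpowers (QuotientGroup.mk' N t)).card_mul_index
    rw [Nat.card_zpowers, orderOf_eq_prime (p := 2)
      (by rw [pow_two]; exact (hO.mk_inv hO.notMem hO.sqMem).2) (hO.mk_inv hO.notMem hO.sqMem).1,
      hO.quot.card] at hi
    rw [hZ, Subgroup.index_comap_of_surjective _ (QuotientGroup.mk'_surjective N),
      show (Subgroup.zpowers (QuotientGroup.mk' N t)).index = 30 by omega] at hd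
    exact T.not_dvd_index ((show (2 : ℕ) ∣ 30 by norm_num).trans hd)
  have htvT : t * v ∈ (T : Subgroup G) := mul_mem htT hvT
  have hvv : v * v = z := hTsquare v hvT hv
  have htvv : t * v * (t * v) = z := hTsquare _ htvT htv
  -- the intersection with the kernel
  have hTN : ∀ n ∈ (T : Subgroup G), n ∈ N → n = 1 ∨ n = z := by
    intro n hnT hnN
    have key : ∀ s ∈ (T : Subgroup G), s ∉ N → s * n * s⁻¹ = n⁻¹ := by
      intro s hs hsN
      have h1 := hTsquare (s * n) (mul_mem hs hnT)
        (fun e => hsN (by simpa using N.mul_mem e (N.inv_mem hnN)))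
      rw [← hTsquare s hs hsN] at h1
      calc s * n * s⁻¹ = s⁻¹ * (s * s) * n * s⁻¹ := by group
        _ = s⁻¹ * (s * n * (s * n)) * n * s⁻¹ * 1 := by rw [h1, mul_one]
        _ = n * (s * n * n * s⁻¹) := by group
        _ = n⁻¹ := ?_
      have h2 : n * s * n = s :=
        mul_left_cancel (a := s) (by rw [← mul_assoc, ← mul_assoc, mul_assoc _ s n]; exact h1)
      calc n * (s * n * n * s⁻¹) = n * s * n * (n * s⁻¹) := by group
        _ = s * n * s⁻¹ := by rw [h2]; group
        _ = n⁻¹ * (n * s * n) * s⁻¹ := by group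
        _ = n⁻¹ := by rw [h2]; group
    have h3 := key _ htvT htv
    rw [show t * v * n * (t * v)⁻¹ = t * (v * n * v⁻¹) * t⁻¹ by group, key v hvT hv,
      show t * n⁻¹ * t⁻¹ = (t * n * t⁻¹)⁻¹ by group, key t htT hO.notMem, inv_inv] at h3
    have h4 := key t htT hO.notMem
    rw [← h3, mul_inv_eq_iff_eq_mul] at h4
    exact huniq t hO.notMem hO.sqMem n h4.symm (eq_inv_iff_mul_eq_one.1 h3)
  have hcardT : Nat.card (T : Subgroup G) = 8 := by
    set f : (T : Subgroup G) →* G ⧸ N := (QuotientGroup.mk' N).comp (T : Subgroup G).subtype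
    have hker : Nat.card f.ker ≤ 2 := by
      refine le_of_le_of_eq (Nat.card_le_card_of_injective
        (fun a : f.ker => decide ((a.1.1 : G) = 1)) fun a b h => ?_) (show Nat.card Bool = 2 by simp)
      simp only [decide_eq_decide] at h
      refine Subtype.ext (Subtype.ext ?_)
      rcases hTN _ a.1.2 ((QuotientGroup.eq_one_iff _).1 (MonoidHom.mem_ker.1 a.2)) with ea | ea
      · rw [ea, h.1 ea]
      · rcases hTN _ b.1.2 ((QuotientGroup.eq_one_iff _).1 (MonoidHom.mem_ker.1 b.2)) with eb | eb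
        · exact absurd (h.2 eb) (ea ▸ hz1)
        · rw [ea, eb]
    have hrange : Nat.card f.range ≤ 4 := by
      obtain ⟨j, hj⟩ := ((T.2.of_surjective f.rangeRestrict f.rangeRestrict_surjective)).exists_card_eq
      have hd : Nat.card f.range ∣ 60 := hO.quot.card ▸ Subgroup.card_subgroup_dvd_card _
      have hj2 : j ≤ 2 := by
        by_contra hlt
        have := (pow_dvd_pow 2 (show 3 ≤ j by omega)).trans (hj ▸ hd)
        norm_num at this
      rw [hj]
      exact (Nat.pow_le_pow_right (by norm_num) hj2).trans_eq rfl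
    have h := f.ker.card_mul_index
    rw [Subgroup.index_ker] at h
    obtain ⟨k, hk⟩ := T.2.exists_card_eq
    have h4 : 4 < Nat.card (T : Subgroup G) := by
      have hne : Subgroup.zpowers t ≠ (T : Subgroup G) := fun e => by
        have hvz : v ∈ Subgroup.zpowers t := e ▸ hvT
        rcases (isOfFinOrder_of_finite t).mem_zpowers_iff_mem_range_orderOf.1 hvz |> Finset.mem_image.1
          with ⟨i, hi, rfl⟩
        rw [ht, Finset.mem_range] at hi
        interval_cases i
        · exact hv (by simp)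
        · exact htv (by simpa using hO.sqMem)
        · exact hv (by rw [pow_two]; exact hO.sqMem)
        · exact htv (by
            rw [show t * t ^ 3 = t * t * (t * t) by simp only [pow_succ, pow_zero, one_mul, mul_assoc]]
            exact N.mul_mem hO.sqMem hO.sqMem)
      have h5 : Nat.card (Subgroup.zpowers t) = 4 := by rw [Nat.card_zpowers, ht]
      by_contra hle
      exact hne (Subgroup.eq_of_le_of_card_ge hT (by omega))
    have hle8 : Nat.card (T : Subgroup G) ≤ 8 := by
      rw [← h]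
      exact (Nat.mul_le_mul hker hrange)
    rw [hk] at h4 hle8 ⊢
    have hk3 : k = 3 := by
      have h6 : 2 < k := by
        by_contra hlt
        have := Nat.pow_le_pow_right (show 2 > 0 by norm_num) (show k ≤ 2 by omega)
        omega
      by_contra hne
      have := Nat.pow_le_pow_right (show 2 > 0 by norm_num) (show 4 ≤ k by omega)
      omega
    rw [hk3]; rfl
  -- the odd part of the kernel
  have hNmod : Nat.card N % 4 = 2 := by
    have h := (T : Subgroup G).card_mul_index
    rw [hcardT, hO.card_eq] at h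
    have := T.not_dvd_index
    omega
  obtain ⟨O₀, hO₀n, hO₀i⟩ : ∃ O₀ : Subgroup N, O₀.Normal ∧ O₀.index = 2 := by
    obtain ⟨T₀⟩ := (inferInstance : Nonempty (Sylow 2 N))
    haveI : IsCyclic T₀ := isCyclic_of_prime_card (p := 2) (by
      obtain ⟨k, hk⟩ := T₀.2.exists_card_eq
      have h := (T₀ : Subgroup N).card_mul_index
      have := T₀.not_dvd_index
      rw [hk] at h ⊢
      rcases k with _ | _ | k
      · omega
      · rfl
      · exfalso
        have h4 : 4 ∣ Nat.card N := ⟨2 ^ k * (T₀ : Subgroup N).index, by rw [← h]; ring⟩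
        omega)
    exact RegLinear.exists_index_two_of_cyclic_sylow T₀ (by omega)
  have hO₀c : Nat.card O₀ % 2 = 1 := by
    have h := O₀.card_mul_index
    rw [hO₀i] at h
    omega
  set O := O₀.map N.subtype with hOdef
  have hOcard : Nat.card O = Nat.card O₀ := Subgroup.card_map_of_injective N.subtype_injective
  have hOmem : ∀ g : G, g ∈ O ↔ g ∈ N ∧ orderOf g % 2 = 1 := by
    intro g
    refine ⟨?_, fun h => ?_⟩
    · rintro ⟨x, hx, rfl⟩
      refine ⟨x.2, Nat.odd_iff.1 ((Nat.odd_iff.2 hO₀c).of_dvd_nat ?_)⟩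
      rw [Subgroup.subtype_apply, Subgroup.orderOf_coe]
      exact Subgroup.orderOf_dvd_natCard _ hx
    · refine ⟨⟨g, h.1⟩, ?_, rfl⟩
      have hsq' := Subgroup.sq_mem_of_index_two hO₀i (⟨g, h.1⟩ : N)
      have ho : orderOf (⟨g, h.1⟩ : N) = orderOf g := (Subgroup.orderOf_coe _).symm
      obtain ⟨m, hm⟩ := Nat.odd_iff.2 (ho ▸ h.2)
      have := O₀.pow_mem hsq' (m + 1)
      rwa [← pow_mul, show 2 * (m + 1) = orderOf (⟨g, h.1⟩ : N) + 1 by omega, pow_succ,
        pow_orderOf_eq_one, one_mul] at this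
  have hOn : O.Normal := ⟨fun g hg x => (hOmem _).2 ⟨‹N.Normal›.conj_mem g ((hOmem g).1 hg).1 x, by
    rw [show x * g * x⁻¹ = MulAut.conj x g from rfl, (MulAut.conj x).orderOf_eq g]
    exact ((hOmem g).1 hg).2⟩⟩
  have hcore : Cfsg.oddCore G = O := by
    refine le_antisymm (fun x hx => (hOmem x).2 ⟨hO.core_le hx, ?_⟩)
      (CfsgLib.PLocal.le_pPrimeCore (hN := hOn) ?_)
    · have h1 := CfsgLib.PLocal.coprime_card_pPrimeCore 2 G
      rw [Nat.coprime_two_right] at h1
      exact Nat.odd_iff.1 (h1.of_dvd_nat (Subgroup.orderOf_dvd_natCard _ hx))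
    · rw [Nat.coprime_two_right, Nat.odd_iff, hOcard]
      exact hO₀c
  -- fixed points
  have hone : ∀ g ∈ O, g * g = 1 → g = 1 := fun g hg h => by
    have := (Nat.dvd_prime Nat.prime_two).1 (orderOf_dvd_of_pow_eq_one ((pow_two g).trans h))
    rcases this with e | e
    · exact orderOf_eq_one_iff.1 e
    · have := ((hOmem g).1 hg).2
      omega
  have hfix : ∀ s ∈ (T : Subgroup G), s ∉ N → ∀ h ∈ O, s * h * s⁻¹ = h → h = 1 := by
    intro s hs hsN h hh e
    have hd := Subgroup.orderOf_dvd_natCard _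
      (Subgroup.mem_centralizer_singleton_iff.2 (mul_inv_eq_iff_eq_mul.1 e).symm :
        h ∈ Subgroup.centralizer ({s} : Set G))
    rw [(hO.lift hsN (hTsq s hs)).2] at hd
    have h2 := ((hOmem h).1 hh).2
    have hle := Nat.le_of_dvd (by norm_num) hd
    refine orderOf_eq_one_iff.1 ?_
    interval_cases hk : orderOf h <;> omega
  have hzinv : ∀ h ∈ O, z * h * z⁻¹ = h⁻¹ := by
    refine inverts_of_fixedPointFree O z (fun h hh => hOn.conj_mem h hh z) (fun h _ => ?_) ?_
    · rw [show z * (z * h * z⁻¹) * z⁻¹ = z * z * h * (z * z)⁻¹ by group, hzz, inv_one, mul_one, one_mul]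
    intro h hh e
    have key : ∀ s ∈ (T : Subgroup G), s ∉ N → s * h * s⁻¹ = h⁻¹ := by
      intro s hs hsN
      have hss := hTsquare s hs hsN
      refine inverts_of_fixedPointFree (O ⊓ Subgroup.centralizer {z}) s (fun x hx => ?_)
        (fun x hx => ?_) (fun x hx => hfix s hs hsN x hx.1) h
        ⟨hh, Subgroup.mem_centralizer_singleton_iff.2 (mul_inv_eq_iff_eq_mul.1 e).symm⟩
      · refine ⟨hOn.conj_mem x hx.1 s, Subgroup.mem_centralizer_singleton_iff.2 ?_⟩
        have hx2 := Subgroup.mem_centralizer_singleton_iff.1 hx.2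
        rw [← hss] at hx2 ⊢
        calc s * x * s⁻¹ * (s * s) = s * (x * (s * s)) * s⁻¹ := by group
          _ = s * s * (s * x * s⁻¹) := by rw [hx2]; group
      · rw [show s * (s * x * s⁻¹) * s⁻¹ = s * s * x * (s * s)⁻¹ by group, hss,
          ← Subgroup.mem_centralizer_singleton_iff.1 hx.2, mul_inv_cancel_right]
    have h3 := key _ htvT htv
    rw [show t * v * h * (t * v)⁻¹ = t * (v * h * v⁻¹) * t⁻¹ by group, key v hvT hv,
      show t * h⁻¹ * t⁻¹ = (t * h * t⁻¹)⁻¹ by group, key t htT hO.notMem, inv_inv] at h3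
    exact hone h hh (eq_inv_iff_mul_eq_one.1 h3)
  have hcommO : ∀ a ∈ O, ∀ b ∈ O, a * b = b * a := fun a ha b hb => by
    have h := hzinv (a * b) (O.mul_mem ha hb)
    rw [show z * (a * b) * z⁻¹ = (z * a * z⁻¹) * (z * b * z⁻¹) by group, hzinv a ha, hzinv b hb,
      ← mul_inv_rev, inv_inj] at h
    exact h.symm
  suffices key : ∀ (M : Subgroup G) (_ : M.Normal), M = O → IsMulCommutative ↥M ∧
      Nat.card (G ⧸ M) = 120 ∧ ¬ Group.IsSolvable (G ⧸ M) ∧
      ∀ P : Sylow 2 (G ⧸ M), Nonempty ((P : Subgroup (G ⧸ M)) ≃* QuaternionGroup 2) from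
    key (Cfsg.oddCore G) inferInstance hcore
  rintro M hM rfl
  have hcardH : Nat.card (G ⧸ O) = 120 := by
    have h := O₀.card_mul_index
    rw [hO₀i] at h
    have h' := Subgroup.card_eq_card_quotient_mul_card_subgroup O
    rw [hO.card_eq, hOcard, ← h] at h'
    have hpos := Nat.card_pos (α := O₀)
    refine (Nat.eq_of_mul_eq_mul_right hpos ?_).symm
    rw [← h']; ring
  refine ⟨⟨⟨fun a b => Subtype.ext (hcommO a.1 a.2 b.1 b.2)⟩⟩, hcardH, fun hs => ?_, ?_⟩
  · haveI := hs
    have hle : O ≤ N := fun g hg => ((hOmem g).1 hg).1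
    obtain ⟨e⟩ := hO.quot.iso
    haveI : IsSimpleGroup (alternatingGroup (Fin 5)) :=
      alternatingGroup.isSimpleGroup (by rw [Nat.card_fin])
    haveI : Group.IsSolvable (alternatingGroup (Fin 5)) :=
      Group.isSolvable_of_surjective (f := e.toMonoidHom.comp
        (QuotientGroup.lift O (QuotientGroup.mk' N) fun g hg =>
          MonoidHom.mem_ker.2 ((QuotientGroup.eq_one_iff g).2 (hle hg))))
        (e.surjective.comp fun q => by
          obtain ⟨g, rfl⟩ := QuotientGroup.mk'_surjective N q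
          exact ⟨QuotientGroup.mk' O g, rfl⟩)
    have hcm := IsSimpleGroup.comm_iff_isSolvable.2 ‹Group.IsSolvable (alternatingGroup (Fin 5))›
    have h4 := hO.quot.centralizer _ (hO.mk_inv hO.notMem hO.sqMem).1 (hO.mk_inv hO.notMem hO.sqMem).2
    rw [show Subgroup.centralizer ({QuotientGroup.mk' N t} : Set (G ⧸ N)) = ⊤ from eq_top_iff.2
      fun x _ => Subgroup.mem_centralizer_singleton_iff.2
        (e.injective (by rw [map_mul, map_mul, hcm])), Subgroup.card_top, hO.quot.card] at h4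
    omega
  · set π := QuotientGroup.mk' O
    have hzc : z * t = t * z := by rw [hz, mul_assoc]
    have hzv : z * v = v * z := by rw [← hvv, mul_assoc]
    have hrel : v * t = t⁻¹ * v := by
      have e1 : v⁻¹ = v * z := inv_eq_of_mul_eq_one_right (by rw [← mul_assoc, hvv, hzz])
      have e2 : t⁻¹ = t * z := inv_eq_of_mul_eq_one_right (by rw [← mul_assoc, ← hz, hzz])
      have e3 : v * t * v = t :=
        mul_left_cancel (a := t) (by rw [← mul_assoc, ← mul_assoc, ← hz, mul_assoc (t * v) t v]; exact htvv)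
      rw [mul_inv_eq_iff_eq_mul.2 e3.symm |>.symm, e1, e2, mul_assoc t z, hzv]
    have hx4 : π t ^ 4 = 1 := by rw [← map_pow, ← ht, pow_orderOf_eq_one, map_one]
    have hu2 : π v * π v = π t ^ 2 := by rw [← map_mul, ← map_pow, hvv, hz, pow_two]
    have hr : π v * π t = (π t)⁻¹ * π v := by rw [← map_mul, ← map_inv, ← map_mul, hrel]
    have hzO : z ∉ O := fun h => hz1 (hone z h hzz)
    have hord : orderOf (π t) = 4 := by
      rw [show (4 : ℕ) = 2 ^ (1 + 1) from rfl]
      refine orderOf_eq_prime_pow (fun h => hzO ?_) hx4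
      refine (QuotientGroup.eq_one_iff z).1 ?_
      show π z = 1
      rw [hz, ← pow_two, map_pow]
      exact h
    have hnc : ¬ Commute (π v) (π t) := fun h => by
      have e : (π t)⁻¹ = π t := mul_right_cancel (hr.symm.trans h.eq)
      have := orderOf_dvd_of_pow_eq_one
        (show π t ^ 2 = 1 by rw [pow_two]; exact inv_eq_iff_mul_eq_one.1 e)
      rw [hord] at this
      norm_num at this
    set q := Perm.RegularLinear.quatHom hx4 hu2 hr
    have hq : Function.Injective q := Perm.RegularLinear.quatHom_injective hx4 hu2 hr hord hnc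
    have hR : Nat.card q.range = 2 ^ (Nat.card (G ⧸ O)).factorization 2 := by
      rw [← Nat.card_congr (MonoidHom.ofInjective hq).toEquiv, Nat.card_eq_fintype_card,
        QuaternionGroup.card, hcardH, show (120 : ℕ) = 2 ^ 3 * 15 from rfl,
        Nat.factorization_mul (by norm_num) (by norm_num), Finsupp.add_apply,
        Nat.Prime.factorization_pow Nat.prime_two,
        Nat.factorization_eq_zero_of_not_dvd (show ¬ 2 ∣ 15 by norm_num)]
      simp
    intro P
    exact ⟨(P.equiv (Sylow.ofCard q.range hR)).trans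
      ((MulEquiv.subgroupCongr (Sylow.coe_ofCard q.range hR)).trans (MonoidHom.ofInjective hq).symm)⟩

end CfsgLib.SmallValue
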