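import Cfsg.Agent.SmallValue.Degrees

/-!
# A faithful character of degree three: the group has order sixty and is simple
-/

set_option autoImplicit false
set_option linter.style.haveILetI false
set_option linter.unusedSectionVars false

namespace CfsgLib.SmallValue

open CfsgLib.Characters CfsgLib.OddOrderChar
open scoped ComplexConjugate

universe u

variable {G : Type u} [Group G] [Fintype G] {t : G}

/-- The character of degree five attached to one of degree three. -/
def five (χ : G → ℂ) : G → ℂ := χ * χ - χ - 1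

theorem five_apply (χ : G → ℂ) (g : G) : five χ g = χ g * χ g - χ g - 1 := rfl

theorem ip_swap_mul {a b c : G → ℂ} (hb : cj b = b) :
    Cfsg.classInner (a * b) c = Cfsg.classInner a (b * c) :=
  ip_eq fun g => by
    have := congrFun hb g
    rw [cj_apply] at this
    simp [this]
    ring

theorem cj_five {χ : G → ℂ} (h : cj χ = χ) : cj (five χ) = five χ := funext fun g => by
  have := congrFun h g
  rw [cj_apply] at this
  simp [cj, five, this]

variable (hG : Hyp G t) (ht : t * t = 1)
include hG ht

theorem isIrr_five {χ : G → ℂ} (hχ : Cfsg.IsIrrCharacter G χ) (hd : χ 1 = 3) :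
    Cfsg.IsIrrCharacter G (five χ) ∧ five χ 1 = 5 :=
  exists_five hG ht hχ hd (three_real hG ht hχ hd)

/-- The products with the character of degree five. -/
theorem mul_five {χ : G → ℂ} (hχ : Cfsg.IsIrrCharacter G χ) (hd : χ 1 = 3) :
    ∃ φ η : G → ℂ, Cfsg.IsIrrCharacter G φ ∧ φ 1 = 3 ∧ φ ≠ χ ∧ Cfsg.IsIrrCharacter G η ∧ η 1 = 4 ∧
      χ * five χ = χ + φ + η + five χ := by
  have hperf := perfect hG
  have hr := three_real hG ht hχ hd
  have hr' : ∀ g, conj (χ g) = χ g := fun g => congrFun hr g
  have hv := three_value hG ht hχ hd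
  obtain ⟨hF, hF1⟩ := isIrr_five hG ht hχ hd
  set L : G → ℂ := χ * χ * χ - χ * χ - χ * χ + 1 with hL
  have hLc : Cfsg.IsCharacter G L := by
    convert isCharacter_alt (isCharacter_of_isIrr hF) using 1
    funext g
    simp only [five_apply, sq_three hperf (isCharacter_of_isIrr hχ) hd g, hr']
    simp [hL]
    ring
  have h11 : Cfsg.classInner (χ * χ) 1 = 1 :=
    (ip_eq fun g => by simp [hr']).trans (classInner_isIrr_self hχ)
  have hsq : χ * χ = 1 + χ + five χ := by funext g; simp [five]; ring
  have h2χ : Cfsg.classInner (χ * χ) χ = 1 := by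
    rw [hsq, classInner_add_left, classInner_add_left, classInner_isIrr_self hχ,
      ip_degree isIrr_one' hχ (by simp [hd]), ip_degree hF hχ (by rw [hF1, hd]; norm_num)]
    ring
  have h22 : Cfsg.classInner (χ * χ) (χ * χ) = 3 := by
    have e1 : Cfsg.classInner (1 : G → ℂ) χ = 0 := ip_degree isIrr_one' hχ (by simp [hd])
    have e2 : Cfsg.classInner (five χ) χ = 0 := ip_degree hF hχ (by rw [hF1, hd]; norm_num)
    have e3 : Cfsg.classInner (five χ) 1 = 0 :=
      ip_degree hF isIrr_one' (by rw [hF1, one_apply']; norm_num)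
    rw [hsq]
    simp only [classInner_add_left, classInner_add_right, classInner_isIrr_self hχ,
      classInner_isIrr_self hF, classInner_isIrr_self isIrr_one', e1, e2, e3, ip_symm_zero e1,
      ip_symm_zero e2, ip_symm_zero e3]
    norm_num
  have hL1 : Cfsg.classInner L 1 = 0 := by
    rw [hL, classInner_add_left, classInner_sub_left, classInner_sub_left, h11,
      ip_swap_mul hr, mul_one, h2χ, classInner_isIrr_self isIrr_one']
    ring
  have hLχ : Cfsg.classInner L χ = 1 := by
    rw [hL, classInner_add_left, classInner_sub_left, classInner_sub_left, h2χ,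
      ip_swap_mul hr, h22, ip_degree isIrr_one' hχ (by simp [hd])]
    ring
  have hR : Rest t (L - χ) 7 (-1) := by
    refine ⟨split hLc hχ (by rw [hLχ]; exact one_ne_zero), ?_, ?_, ?_⟩
    · rw [classInner_sub_left, show (fun _ : G => (1 : ℂ)) = 1 from rfl, hL1,
        ip_degree hχ isIrr_one' (by simp [hd]), sub_zero]
    · simp [hL, hd]; norm_num
    · simp [hL, hv]
  obtain ⟨φ, η, hφ, hφ3, hη, hη4, hab⟩ := Rest.seven hG ht hR
  refine ⟨φ, η, hφ, hφ3, fun e => ?_, hη, hη4, ?_⟩
  · have h1 : Cfsg.classInner (L - χ) χ = 0 := by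
      rw [classInner_sub_left, hLχ, classInner_isIrr_self hχ, sub_self]
    rw [hab, classInner_add_left, e, classInner_isIrr_self hχ,
      ip_degree hη hχ (by rw [hη4, hd]; norm_num)] at h1
    norm_num at h1
  · funext g
    have h1 := congrFun hab g
    simp only [hL, Pi.sub_apply, Pi.add_apply, Pi.mul_apply, Pi.one_apply] at h1
    simp only [five, Pi.sub_apply, Pi.add_apply, Pi.mul_apply, Pi.one_apply]
    linear_combination h1

/-- All characters of degree three give the same character of degree five. -/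
theorem five_eq {a b : G → ℂ} (ha : Cfsg.IsIrrCharacter G a) (ha3 : a 1 = 3)
    (hb : Cfsg.IsIrrCharacter G b) (hb3 : b 1 = 3) (hne : a ≠ b) : five a = five b := by
  by_contra hF
  obtain ⟨hA, hA1⟩ := isIrr_five hG ht ha ha3
  obtain ⟨hB, hB1⟩ := isIrr_five hG ht hb hb3
  have ra : ∀ g, conj (a g) = a g := fun g => congrFun (three_real hG ht ha ha3) g
  have rb : ∀ g, conj (b g) = b g := fun g => congrFun (three_real hG ht hb hb3) g
  refine no_nine hG ht (isCharacter_mul (isCharacter_of_isIrr ha) (isCharacter_of_isIrr hb)) ?_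
    (by simp [ha3, hb3]; norm_num)
    (by simp [three_value hG ht ha ha3, three_value hG ht hb hb3])
  rw [ip_eq (c := 1 + a + five a) (d := 1 + b + five b) fun g => by simp [five, ra, rb]; ring]
  simp only [classInner_add_left, classInner_add_right]
  rw [classInner_isIrr_self isIrr_one', ip_degree isIrr_one' hb (by simp [hb3]),
    ip_degree isIrr_one' hB (by rw [hB1, one_apply']; norm_num),
    ip_degree ha isIrr_one' (by simp [ha3]), classInner_isIrr_ne ha hb hne,
    ip_degree ha hB (by rw [hB1, ha3]; norm_num),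
    ip_degree hA isIrr_one' (by rw [hA1, one_apply']; norm_num),
    ip_degree hA hb (by rw [hA1, hb3]; norm_num), classInner_isIrr_ne hA hB hF]
  norm_num

/-- With a faithful character of degree three the group has order sixty and is simple. -/
theorem sixty {χ : G → ℂ} (hχ : Cfsg.IsIrrCharacter G χ) (hd : χ 1 = 3)
    (hfaith : ∀ g, χ g = 3 → g = 1) :
    Nat.card G = 60 ∧ IsSimpleGroup G ∧ ∀ g, five χ g = 5 → g = 1 := by
  classical
  obtain ⟨φ, η, hφ, hφ3, hne, hη, hη4, hχF⟩ := mul_five hG ht hχ hd
  set F := five χ with hFdef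
  obtain ⟨hF, hF5⟩ := isIrr_five hG ht hχ hd
  rw [← hFdef] at hF hF5
  have hFF : five φ = F := five_eq hG ht hφ hφ3 hχ hd hne
  obtain ⟨φ', η3, hφ', hφ'3, hne', hη3, hη34, hφF⟩ := mul_five hG ht hφ hφ3
  rw [hFF] at hφF
  have rχ := three_real hG ht hχ hd
  have rφ := three_real hG ht hφ hφ3
  have rF : cj F = F := cj_five rχ
  have d1χ : Cfsg.classInner χ 1 = 0 := ip_degree hχ isIrr_one' (by simp [hd])
  have dφχ : Cfsg.classInner φ χ = 0 := classInner_isIrr_ne hφ hχ hne
  have dηχ : Cfsg.classInner η χ = 0 := ip_degree hη hχ (by rw [hη4, hd]; norm_num)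
  have dηφ : Cfsg.classInner η φ = 0 := ip_degree hη hφ (by rw [hη4, hφ3]; norm_num)
  have dFχ : Cfsg.classInner F χ = 0 := ip_degree hF hχ (by rw [hF5, hd]; norm_num)
  have dFφ : Cfsg.classInner F φ = 0 := ip_degree hF hφ (by rw [hF5, hφ3]; norm_num)
  have dFη : Cfsg.classInner F η = 0 := ip_degree hF hη (by rw [hF5, hη4]; norm_num)
  have hχFφ : Cfsg.classInner (χ * F) φ = 1 := by
    rw [hχF]
    simp only [classInner_add_left, classInner_isIrr_self hφ, ip_symm_zero dφχ, dηφ, dFφ]
    norm_num
  have hχFχ : Cfsg.classInner (χ * F) χ = 1 := by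
    rw [hχF]
    simp only [classInner_add_left, classInner_isIrr_self hχ, dφχ, dηχ, dFχ]
    norm_num
  have hχFη : Cfsg.classInner (χ * F) η = 1 := by
    rw [hχF]
    simp only [classInner_add_left, classInner_isIrr_self hη, ip_symm_zero dηχ, ip_symm_zero dηφ,
      dFη]
    norm_num
  -- `φ' = χ`
  have hφFχ : Cfsg.classInner (φ * F) χ = 1 := by
    rw [← hχFφ]
    exact ip_eq fun g => by
      have e1 := congrFun rχ g
      have e2 := congrFun rφ g
      rw [cj_apply] at e1 e2
      simp [e1, e2]; ring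
  have hφ'χ : φ' = χ := by
    by_contra h
    rw [hφF] at hφFχ
    simp only [classInner_add_left, dφχ, dFχ, classInner_isIrr_ne hφ' hχ h,
      ip_degree hη3 hχ (by rw [hη34, hd]; norm_num)] at hφFχ
    norm_num at hφFχ
  rw [hφ'χ] at hφF
  -- `χ φ = F + η'`
  have hχφF : Cfsg.classInner (χ * φ) F = 1 := by
    rw [← hχFφ]
    exact ip_eq fun g => by
      have e2 := congrFun rφ g
      have e3 := congrFun rF g
      rw [cj_apply] at e2 e3
      simp [e2, e3]; ring
  obtain ⟨η', hη', hη'4, hχφ⟩ : ∃ η', Cfsg.IsIrrCharacter G η' ∧ η' 1 = 4 ∧ χ * φ = F + η' := by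
    refine ⟨χ * φ - F, Rest.small hG ht (D := 4) (V := 0) ⟨split (isCharacter_mul
      (isCharacter_of_isIrr hχ) (isCharacter_of_isIrr hφ)) hF (by rw [hχφF]; exact one_ne_zero),
      ?_, ?_, ?_⟩ (by norm_num) (by norm_num), ?_, (add_sub_cancel F (χ * φ)).symm⟩
    · rw [show (fun _ : G => (1 : ℂ)) = 1 from rfl, classInner_sub_left, ip_swap_mul rφ, mul_one,
        ip_symm_zero dφχ, ip_degree hF isIrr_one' (by rw [hF5, one_apply']; norm_num), sub_zero]
    · simp [hd, hφ3, hF5]; norm_num
    · simp [hFdef, five, three_value hG ht hχ hd, three_value hG ht hφ hφ3]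
    · simp [hd, hφ3, hF5]; norm_num
  have r1 : ∀ g, χ g * χ g = 1 + χ g + F g := fun g => by rw [hFdef, five_apply]; ring
  have r2 : ∀ g, φ g * φ g = 1 + φ g + F g := fun g => by rw [← hFF, five_apply]; ring
  have r3 : ∀ g, χ g * φ g = F g + η' g := fun g => by simpa using congrFun hχφ g
  have r4 : ∀ g, χ g * F g = χ g + φ g + η g + F g := fun g => by simpa using congrFun hχF g
  have r5 : ∀ g, φ g * F g = φ g + χ g + η3 g + F g := fun g => by simpa using congrFun hφF g
  have hbal : χ + χ * η = φ + φ * η3 := by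
    funext g
    simp only [Pi.add_apply, Pi.mul_apply]
    linear_combination (F g - 1) * r1 g - (F g - 1) * r2 g - χ g * r4 g + φ g * r5 g
  have dηχ' : Cfsg.classInner η' χ = 0 := ip_degree hη' hχ (by rw [hη'4, hd]; norm_num)
  have dη'φ : Cfsg.classInner η' φ = 0 := ip_degree hη' hφ (by rw [hη'4, hφ3]; norm_num)
  have hprodη : ∀ e : G → ℂ, Cfsg.IsIrrCharacter G e → e 1 = 4 → Cfsg.classInner (χ * φ) e ≠ 0 →
      η' = e := by
    intro e he he4 h
    by_contra hne0
    rw [hχφ, classInner_add_left, classInner_isIrr_ne hη' he hne0,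
      ip_degree hF he (by rw [hF5, he4]; norm_num), add_zero] at h
    exact h rfl
  have hη'η : η' = η := by
    refine hprodη η hη hη4 fun h => ?_
    have h1 := congrArg (fun f => Cfsg.classInner f φ) hbal
    simp only [classInner_add_left, ip_symm_zero dφχ, classInner_isIrr_self hφ, zero_add] at h1
    have h2 : Cfsg.classInner (χ * η) φ = 0 := by
      refine Eq.trans (ip_eq fun g => ?_) (ip_symm_zero h)
      have e2 := congrFun rφ g
      have e1 := congrFun rχ g
      rw [cj_apply] at e1 e2
      simp [e1, e2]; ring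
    obtain ⟨m, hm⟩ := classInner_character_irr (isCharacter_mul (isCharacter_of_isIrr hφ)
      (isCharacter_of_isIrr hη3)) hφ
    rw [h2, hm] at h1
    exact absurd h1.symm (by norm_cast; omega)
  have hη3η : η3 = η := by
    refine (hprodη η3 hη3 hη34 fun h => ?_).symm.trans hη'η
    have h1 := congrArg (fun f => Cfsg.classInner f χ) hbal
    simp only [classInner_add_left, dφχ, classInner_isIrr_self hχ, zero_add] at h1
    have h2 : Cfsg.classInner (φ * η3) χ = 0 := by
      refine Eq.trans (ip_eq fun g => ?_) (ip_symm_zero h)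
      have e2 := congrFun rφ g
      have e1 := congrFun rχ g
      rw [cj_apply] at e1 e2
      simp [e1, e2]; ring
    obtain ⟨m, hm⟩ := classInner_character_irr (isCharacter_mul (isCharacter_of_isIrr hχ)
      (isCharacter_of_isIrr hη)) hχ
    rw [h2, hm] at h1
    exact absurd h1 (by norm_cast; omega)
  subst hη'η hη3η
  -- `χ η = F + φ + η`
  have rη : ∀ g, conj (η3 g) = η3 g := fun g => by
    have e := r3 g
    have e3 := congrArg conj e
    have e1 := congrFun rχ g
    have e2 := congrFun rφ g
    have e5 := congrFun rF g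
    rw [cj_apply] at e1 e2 e5
    simp only [map_add, map_mul, e1, e2, e5] at e3
    linear_combination e - e3
  have rχ' : ∀ g, conj (χ g) = χ g := fun g => congrFun rχ g
  have hχηF : Cfsg.classInner (χ * η3) F = 1 := by
    rw [classInner_conj_symm, show Cfsg.classInner F (χ * η3) = 1 from
      (ip_eq fun g => by simp [rχ']; ring).trans hχFη, map_one]
  have hχηφ : Cfsg.classInner (χ * η3) φ = 1 := by
    have h0 : Cfsg.classInner (χ * φ) η3 = 1 := by
      rw [hχφ, classInner_add_left, classInner_isIrr_self hη, dFη, zero_add]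
    rw [classInner_conj_symm, show Cfsg.classInner φ (χ * η3) = 1 from
      (ip_eq fun g => by simp [rχ']; ring).trans h0, map_one]
  set η4 := χ * η3 - F - φ with hη4def
  have hη4irr : Cfsg.IsIrrCharacter G η4 := by
    refine Rest.small hG ht (D := 4) (V := 0) ⟨split (split (isCharacter_mul
      (isCharacter_of_isIrr hχ) (isCharacter_of_isIrr hη)) hF (by rw [hχηF]; exact one_ne_zero)) hφ
      ?_, ?_, ?_, ?_⟩ (by norm_num) (by norm_num)
    · rw [classInner_sub_left, hχηφ, dFφ, sub_zero]; exact one_ne_zero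
    · rw [show (fun _ : G => (1 : ℂ)) = 1 from rfl, hη4def, classInner_sub_left, classInner_sub_left,
        ip_degree hφ isIrr_one' (by simp [hφ3]),
        ip_degree hF isIrr_one' (by rw [hF5, one_apply']; norm_num), sub_zero, sub_zero]
      exact (ip_eq fun g => by simp [rη]).trans (ip_symm_zero dηχ)
    · simp [hη4def, hd, hη4, hF5, hφ3]; norm_num
    · have hηt : η3 t = 0 := by
        have e := r3 t
        simp only [hFdef, five_apply, three_value hG ht hχ hd, three_value hG ht hφ hφ3] at e
        linear_combination -e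
      simp [hη4def, hηt, hFdef, five, three_value hG ht hχ hd, three_value hG ht hφ hφ3]
  have hη4d : η4 1 = 4 := by simp [hη4def, hd, hη4, hF5, hφ3]; norm_num
  -- `η * η` contains `χ`
  have hηηχ : Cfsg.classInner (η3 * η3) χ = 1 := by
    have hid : η3 * η3 = 1 + χ + φ + F + F + χ * φ + χ * F + φ * F - F * η3 - F * η3 := by
      funext g
      simp only [Pi.add_apply, Pi.sub_apply, Pi.mul_apply, Pi.one_apply]
      linear_combination (φ g * φ g) * r1 g + (1 + χ g + F g) * r2 g -
        (η3 g + F g + χ g * φ g) * r3 g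
    rw [hid]
    have h0 : Cfsg.classInner (F * η3) χ = 1 :=
      (ip_eq fun g => by simp [rχ', rη]; ring).trans hχFη
    simp only [classInner_add_left, classInner_sub_left, h0, hχFχ, hφFχ, dφχ, dFχ,
      classInner_isIrr_self hχ, ip_symm_zero d1χ]
    rw [hχφ, classInner_add_left, dηχ, dFχ]
    norm_num
  have hη4η : η4 = η3 := by
    by_contra h
    have h0 : Cfsg.classInner (χ * η3) η3 = 0 := by
      rw [show χ * η3 = η4 + φ + F by rw [hη4def]; abel, classInner_add_left, classInner_add_left,
        classInner_isIrr_ne hη4irr hη h, ip_symm_zero dηφ, dFη]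
      norm_num
    have h1 : Cfsg.classInner (η3 * η3) χ = 0 := by
      rw [classInner_conj_symm, show Cfsg.classInner χ (η3 * η3) = 0 from ?_, map_zero]
      exact (ip_eq fun g => by simp [rη]; ring).trans h0
    rw [hηηχ] at h1
    exact one_ne_zero h1
  have r6 : ∀ g, χ g * η3 g = F g + φ g + η3 g := fun g => by
    have e := congrFun hη4η g
    simp only [hη4def, Pi.sub_apply, Pi.mul_apply] at e
    linear_combination e
  -- the regular character
  set R : G → ℂ := fun g => 1 + 3 * χ g + 3 * φ g + 4 * η3 g + 5 * F g with hR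
  have hR0 : ∀ g, g ≠ 1 → R g = 0 := fun g hg => by
    have e : (χ g - 3) * R g = 0 := by
      simp only [hR]
      linear_combination 3 * r1 g + 3 * r3 g + 4 * r6 g + 5 * r4 g
    exact (mul_eq_zero.1 e).resolve_left fun h => hg (hfaith g (sub_eq_zero.1 h))
  have hR1 : R 1 = 60 := by simp only [hR, hd, hφ3, hη4, hF5]; norm_num
  have hRinner : ∀ ψ : G → ℂ, Cfsg.classInner R ψ = 60 * conj (ψ 1) / Nat.card G := by
    intro ψ
    rw [Cfsg.classInner, Finset.sum_eq_single (1 : G) (fun g _ hg => by rw [hR0 g hg, zero_mul])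
      (fun h => absurd (Finset.mem_univ _) h), hR1]
    ring
  have hRsum : R = 1 + (3 : ℂ) • χ + (3 : ℂ) • φ + (4 : ℂ) • η3 + (5 : ℂ) • F := rfl
  have hcard : Nat.card G = 60 := by
    have h1 := hRinner 1
    rw [hRsum] at h1
    simp only [classInner_add_left, classInner_smul_left, classInner_isIrr_self isIrr_one', d1χ,
      ip_degree hφ isIrr_one' (by simp [hφ3] : φ 1 ≠ (1 : G → ℂ) 1),
      ip_degree hη isIrr_one' (by simp [hη4] : η3 1 ≠ (1 : G → ℂ) 1),
      ip_degree hF isIrr_one' (by rw [hF5, one_apply']; norm_num : F 1 ≠ (1 : G → ℂ) 1),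
      mul_zero, add_zero, Pi.one_apply, map_one, mul_one] at h1
    rw [eq_div_iff (Nat.cast_ne_zero.2 Nat.card_pos.ne'), one_mul] at h1
    exact_mod_cast h1
  have hall : ∀ ψ : G → ℂ, Cfsg.IsIrrCharacter G ψ → ψ = 1 ∨ ψ = χ ∨ ψ = φ ∨ ψ = η3 ∨ ψ = F := by
    intro ψ hψ
    by_contra hno
    push Not at hno
    obtain ⟨h1, h2, h3, h4, h5⟩ := hno
    have h := hRinner ψ
    rw [hRsum] at h
    simp only [classInner_add_left, classInner_smul_left, classInner_isIrr_ne isIrr_one' hψ h1.symm,
      classInner_isIrr_ne hχ hψ h2.symm, classInner_isIrr_ne hφ hψ h3.symm,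
      classInner_isIrr_ne hη hψ h4.symm, classInner_isIrr_ne hF hψ h5.symm, mul_zero, add_zero] at h
    rw [hcard, eq_comm] at h
    exact irr_one_ne_zero hψ (by simpa using h)
  -- kernels
  have kF : ∀ g, F g = 5 → g = 1 := fun g hg => by
    refine hfaith g ((ThreeDegrees.constituent_eq (isCharacter_mul (isCharacter_of_isIrr hF)
      (isCharacter_of_isIrr hF)) hχ ?_ (by simp [hg, hF5])).trans hd)
    rw [ip_eq (c := F) (d := χ * F) fun g => by
      have e3 := congrFun rF g
      rw [cj_apply] at e3
      simp [e3]; ring, classInner_conj_symm, hχF]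
    simp only [classInner_add_left, classInner_isIrr_self hF, ip_symm_zero dFχ, ip_symm_zero dFφ,
      ip_symm_zero dFη]
    norm_num
  have kη : ∀ g, η3 g = 4 → g = 1 := fun g hg => by
    refine hfaith g ((ThreeDegrees.constituent_eq (isCharacter_mul (isCharacter_of_isIrr hη)
      (isCharacter_of_isIrr hη)) hχ (by rw [hηηχ]; exact one_ne_zero) (by simp [hg, hη4])).trans hd)
  have kφ : ∀ g, φ g = 3 → g = 1 := fun g hg => kF g (by
    have := r2 g
    rw [hg] at this
    linear_combination -this)
  haveI : Nontrivial G := ⟨⟨t, 1, hG.ne⟩⟩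
  refine ⟨hcard, ⟨fun M hM => or_iff_not_imp_right.2 fun hMtop => (Subgroup.eq_bot_iff_forall M).2
    fun g hg => ?_⟩, kF⟩
  haveI := hM
  haveI := Fintype.ofFinite (G ⧸ M)
  obtain ⟨x, hx⟩ : ∃ x, x ∉ M := by
    by_contra hall'
    push Not at hall'
    exact hMtop (eq_top_iff.2 fun x _ => hall' x)
  obtain ⟨β, hβ⟩ := SameDegree.exists_irr_ne (c := (x : G ⧸ M))
    fun e => hx ((QuotientGroup.eq_one_iff x).1 e)
  have hlift := isIrr_comp (QuotientGroup.mk' M) (QuotientGroup.mk'_surjective M) β.2
  have hgg : (β : G ⧸ M → ℂ) (QuotientGroup.mk' M g) = (β : G ⧸ M → ℂ) (QuotientGroup.mk' M 1) := by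
    rw [map_one, QuotientGroup.mk'_apply, (QuotientGroup.eq_one_iff g).2 hg]
  rcases hall _ hlift with e | e | e | e | e
  · refine absurd ?_ hβ
    have e1 := congrFun e x
    have e2 := congrFun e 1
    simp only [Pi.one_apply, map_one, QuotientGroup.mk'_apply] at e1 e2
    rw [e1, e2]
  · exact hfaith g ((congrFun e g).symm.trans (hgg.trans ((congrFun e 1).trans hd)))
  · exact kφ g ((congrFun e g).symm.trans (hgg.trans ((congrFun e 1).trans hφ3)))
  · exact kη g ((congrFun e g).symm.trans (hgg.trans ((congrFun e 1).trans hη4)))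
  · exact kF g ((congrFun e g).symm.trans (hgg.trans ((congrFun e 1).trans hF5)))

end CfsgLib.SmallValue
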