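import Cfsg.Agent.SmallValue.Tools

/-!
# Degrees when all non-principal characters have `χ 1 - χ u = 4` or `χ u = 0`
-/

set_option autoImplicit false
set_option linter.style.haveILetI false
set_option linter.unusedSectionVars false

namespace CfsgLib.SmallValue

open CfsgLib.Characters CfsgLib.OddOrderChar
open scoped ComplexConjugate

universe u

variable {G : Type u} [Group G] [Fintype G] {t : G}

/-- The hypothesis. -/
structure Hyp (G : Type u) [Group G] (t : G) : Prop where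
  ne : t ≠ 1
  hyp : ∀ χ : G → ℂ, Cfsg.IsIrrCharacter G χ → χ ≠ (fun _ => 1) → χ 1 - χ t = 4 ∨ χ t = 0

/-- The conjugate function. -/
def cj (f : G → ℂ) : G → ℂ := fun g => conj (f g)

theorem cj_apply (f : G → ℂ) (g : G) : cj f g = conj (f g) := rfl

theorem cj_cj (f : G → ℂ) : cj (cj f) = f := funext fun g => Complex.conj_conj _

theorem one_apply' (g : G) : (1 : G → ℂ) g = 1 := rfl

theorem isIrr_one' : Cfsg.IsIrrCharacter G (1 : G → ℂ) := isIrr_one

theorem isIrr_cj {χ : G → ℂ} (h : Cfsg.IsIrrCharacter G χ) : Cfsg.IsIrrCharacter G (cj χ) :=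
  isIrr_conj h

/-- Inner products only depend on the products of the values. -/
theorem ip_eq {a b c d : G → ℂ} (h : ∀ g, a g * conj (b g) = c g * conj (d g)) :
    Cfsg.classInner a b = Cfsg.classInner c d := by
  simp only [Cfsg.classInner, h]

/-- Irreducible characters of different degrees are orthogonal. -/
theorem ip_degree {a b : G → ℂ} (ha : Cfsg.IsIrrCharacter G a) (hb : Cfsg.IsIrrCharacter G b)
    (h : a 1 ≠ b 1) : Cfsg.classInner a b = 0 :=
  classInner_isIrr_ne ha hb fun e => h (by rw [e])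

theorem ip_symm_zero {a b : G → ℂ} (h : Cfsg.classInner a b = 0) : Cfsg.classInner b a = 0 := by
  rw [classInner_conj_symm, h, map_zero]

theorem ne_one_of_degree {ψ : G → ℂ} {d : ℕ} (hd : ψ 1 = d) (h : d ≠ 1) : ψ ≠ (fun _ => 1) :=
  fun e => h (Nat.cast_injective (R := ℂ) (by rw [← hd, e, Nat.cast_one]))

theorem eq_one_of_full (hG : Hyp G t) {ψ : G → ℂ} (hψ : Cfsg.IsIrrCharacter G ψ) (h : ψ t = ψ 1) :
    ψ = fun _ => 1 := by
  by_contra hne
  rcases hG.hyp ψ hψ hne with e | e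
  · rw [h, sub_self] at e; norm_num at e
  · exact irr_one_ne_zero hψ (h ▸ e)

theorem perfect (hG : Hyp G t) : commutator G = ⊤ := by
  rw [eq_top_iff]
  intro g _
  rw [← Abelianization.ker_of, MonoidHom.mem_ker]
  refine TwoDegrees73.eq_of_forall_hom fun mu => ?_
  rw [map_one]
  set lam : G →* ℂˣ := mu.comp Abelianization.of
  have h1 : (fun x : G => (lam x : ℂ)) = fun _ => 1 := by
    by_contra hne
    have hn : ‖(lam t : ℂ)‖ = 1 := Complex.norm_eq_one_of_pow_eq_one (n := orderOf t)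
      (by rw [← Units.val_pow_eq_pow_val, ← map_pow, pow_orderOf_eq_one, map_one, Units.val_one])
      (orderOf_pos t).ne'
    rcases hG.hyp _ (isIrr_linChar lam) hne with e | e
    · rw [map_one, Units.val_one] at e
      rw [show (lam t : ℂ) = -3 by linear_combination -e] at hn
      norm_num at hn
    · rw [e, norm_zero] at hn; norm_num at hn
  exact Units.ext (congrFun h1 g)

theorem two_value (hG : Hyp G t) {ψ : G → ℂ} (hψ : Cfsg.IsIrrCharacter G ψ) (hd : ψ 1 = 2) :
    ψ t = 0 := by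
  classical
  by_contra hne
  have h1 := (hG.hyp ψ hψ (ne_one_of_degree (d := 2) (by exact_mod_cast hd) (by norm_num))).resolve_right hne
  rw [hd] at h1
  have hψt : ψ t = -2 := by linear_combination -h1
  set ξ : G → ℂ := fun g => ψ g * cj ψ g with hξ
  have hξc : Cfsg.IsCharacter G ξ :=
    isCharacter_mul (isCharacter_of_isIrr hψ) (isCharacter_of_isIrr (isIrr_cj hψ))
  have hξt : ξ t = ξ 1 := by simp [hξ, cj, hd, hψt, map_ofNat]
  have hzero : ∀ φ : Cfsg.IrrCharacter G, (φ : G → ℂ) ≠ (fun _ => 1) →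
      Cfsg.classInner ξ (φ : G → ℂ) = 0 := fun φ hφ => by
    by_contra h0
    exact hφ (eq_one_of_full hG φ.2 (ThreeDegrees.constituent_eq hξc φ.2 h0 hξt))
  have hone : Cfsg.classInner ξ (fun _ => 1) = 1 :=
    (ip_eq fun g => by simp [hξ, cj]).trans (classInner_isIrr_self hψ)
  have h2 := congrFun (character_expansion hξc) 1
  rw [Finset.sum_apply, Finset.sum_eq_single (⟨fun _ => 1, isIrr_one⟩ : Cfsg.IrrCharacter G)
    (fun φ _ hφ => by rw [hzero φ fun e => hφ (Subtype.ext e), zero_smul]; rfl)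
    (fun h => absurd (Finset.mem_univ _) h), Pi.smul_apply, hone, one_smul] at h2
  simp [hξ, cj, hd, map_ofNat] at h2
  norm_num at h2

section Involution

variable (hG : Hyp G t) (ht : t * t = 1)
include hG ht

/-- The possible degrees and values. -/
theorem vals {ψ : G → ℂ} (hψ : Cfsg.IsIrrCharacter G ψ) (hne : ψ ≠ fun _ => 1) :
    ∃ (d : ℕ) (v : ℤ), ψ 1 = d ∧ ψ t = v ∧ 3 ≤ d ∧ ((d : ℤ) - v) % 4 = 0 ∧ -(d : ℤ) ≤ v ∧
      ((d : ℤ) - v = 4 ∨ v = 0) := by
  classical
  obtain ⟨d, hd0, hd⟩ := exists_degree_pos hψ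
  obtain ⟨μ, hp, -, hord, hdet⟩ := exists_eigen (isCharacter_of_isIrr hψ) hd t
  have hμ : ∀ i, μ i = 1 ∨ μ i = -1 := fun i => by
    have h1 := hord i
    rw [orderOf_eq_prime (by rw [pow_two, ht]) hG.ne, pow_two] at h1
    exact mul_self_eq_one_iff.1 h1
  set j := (Finset.univ.filter fun i => μ i = -1).card with hj
  have hjd : j ≤ d := (Finset.card_le_univ _).trans_eq (Fintype.card_fin d)
  have hite : ∀ i, μ i = if μ i = -1 then -1 else 1 := fun i => by
    split_ifs with h
    · exact h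
    · exact (hμ i).resolve_right h
  have hsum : ψ t = ((d : ℤ) - 2 * j : ℤ) := by
    have h1 := hp 1
    simp only [pow_one] at h1
    have h3 : ∀ i, μ i = 1 - 2 * (if μ i = -1 then (1 : ℂ) else 0) := fun i => by
      split_ifs with h
      · rw [h]; norm_num
      · rw [(hμ i).resolve_right h]; norm_num
    rw [h1, Finset.sum_congr rfl fun i _ => h3 i, Finset.sum_sub_distrib, ← Finset.mul_sum,
      Finset.sum_boole, ← hj]
    push_cast
    simp
  have hjeven : Even j := by
    have h1 := hdet (perfect hG)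
    rw [Finset.prod_congr rfl fun i _ => hite i, Finset.prod_ite, Finset.prod_const, Finset.prod_const,
      one_pow, mul_one, ← hj] at h1
    exact (neg_one_pow_eq_one_iff_even (by norm_num)).1 h1
  obtain ⟨i, hi⟩ := hjeven
  have hor : (d : ℤ) - ((d : ℤ) - 2 * j) = 4 ∨ ((d : ℤ) - 2 * j) = 0 := by
    rcases hG.hyp ψ hψ hne with e | e
    · left
      have : (((d : ℤ) - ((d : ℤ) - 2 * j) : ℤ) : ℂ) = ((4 : ℤ) : ℂ) := by
        rw [Int.cast_sub, Int.cast_natCast, ← hsum, ← hd, e]; norm_num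
      exact_mod_cast this
    · right
      have : ((((d : ℤ) - 2 * j) : ℤ) : ℂ) = ((0 : ℤ) : ℂ) := by rw [← hsum, e, Int.cast_zero]
      exact_mod_cast this
  have h2 : d = 2 → ((d : ℤ) - 2 * j) = 0 := fun e => by
    have h0 := two_value hG hψ (by rw [hd, e]; norm_num)
    have : ((((d : ℤ) - 2 * j) : ℤ) : ℂ) = ((0 : ℤ) : ℂ) := by rw [← hsum, h0, Int.cast_zero]
    exact_mod_cast this
  exact ⟨d, (d : ℤ) - 2 * j, hd, hsum, by omega, by omega, by omega, hor⟩

omit hG ht in
/-- A character without trivial constituent of known degree and value. -/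
structure Rest (t : G) (ξ : G → ℂ) (D : ℕ) (V : ℤ) : Prop where
  char : Cfsg.IsCharacter G ξ
  noOne : Cfsg.classInner ξ (fun _ => 1) = 0
  deg : ξ 1 = D
  val : ξ t = V

theorem Rest.step {ξ : G → ℂ} {D : ℕ} {V : ℤ} (h : Rest t ξ D V) (hD : D ≠ 0) :
    ∃ (ψ : G → ℂ) (d : ℕ) (v : ℤ), Cfsg.IsIrrCharacter G ψ ∧ ψ 1 = d ∧ ψ t = v ∧ 3 ≤ d ∧
      ((d : ℤ) - v) % 4 = 0 ∧ -(d : ℤ) ≤ v ∧ ((d : ℤ) - v = 4 ∨ v = 0) ∧ d ≤ D ∧
      Cfsg.classInner ξ ψ ≠ 0 ∧ Rest t (ξ - ψ) (D - d) (V - v) := by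
  obtain ⟨ψ, hψ, hne⟩ := exists_constituent h.char (fun e => hD (Nat.cast_injective (R := ℂ)
    (by rw [← h.deg, e, Pi.zero_apply, Nat.cast_zero])))
  have h1 : ψ ≠ fun _ => 1 := fun e => hne (e ▸ h.noOne)
  obtain ⟨d, v, hd, hv, h3, hmod, hlow, hor⟩ := vals hG ht hψ h1
  have hchar := split h.char hψ hne
  obtain ⟨e, he⟩ := exists_degree hchar
  have hDe : D = e + d := Nat.cast_injective (R := ℂ) (by
    rw [Nat.cast_add, ← h.deg, ← he, ← hd, Pi.sub_apply, sub_add_cancel])
  exact ⟨ψ, d, v, hψ, hd, hv, h3, hmod, hlow, hor, by omega, hne, hchar,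
    by rw [classInner_sub_left, h.noOne, classInner_isIrr_ne hψ isIrr_one h1, sub_zero],
    by rw [he, hDe, Nat.add_sub_cancel], by rw [Pi.sub_apply, h.val, hv, Int.cast_sub]⟩

omit hG ht in
theorem Rest.eq_zero {ξ : G → ℂ} {V : ℤ} (h : Rest t ξ 0 V) : ξ = 0 ∧ V = 0 := by
  have h0 := eq_zero_of_degree h.char (by rw [h.deg, Nat.cast_zero])
  refine ⟨h0, ?_⟩
  have h1 := h.val
  rw [h0, Pi.zero_apply] at h1
  exact_mod_cast h1.symm

theorem Rest.bound : ∀ (D : ℕ) {ξ : G → ℂ} {V : ℤ}, Rest t ξ D V → -(D : ℤ) ≤ 3 * V := by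
  intro D
  induction D using Nat.strong_induction_on with
  | _ D ih =>
  intro ξ V h
  rcases eq_or_ne D 0 with rfl | hD
  · rw [h.eq_zero.2]; simp
  obtain ⟨ψ, d, v, -, -, -, h3, hmod, hlow, hor, hdD, -, h'⟩ := Rest.step hG ht h hD
  have h4 := ih (D - d) (by omega) h'
  omega

theorem Rest.three {ξ : G → ℂ} {V : ℤ} (h : Rest t ξ 3 V) : Cfsg.IsIrrCharacter G ξ ∧ V = -1 := by
  obtain ⟨ψ, d, v, hψ, -, -, h3, hmod, hlow, hor, hdD, -, h'⟩ := Rest.step hG ht h (by norm_num)
  rw [show 3 - d = 0 by omega] at h'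
  have e := h'.eq_zero
  refine ⟨by rw [show ξ = ψ from sub_eq_zero.1 e.1]; exact hψ, by omega⟩

/-- Degrees four and five. -/
theorem Rest.small {ξ : G → ℂ} {D : ℕ} {V : ℤ} (h : Rest t ξ D V) (h4 : 4 ≤ D) (h5 : D ≤ 5) :
    Cfsg.IsIrrCharacter G ξ := by
  obtain ⟨ψ, d, v, hψ, -, -, h3, hmod, hlow, hor, hdD, -, h'⟩ := Rest.step hG ht h (by omega)
  rcases eq_or_ne (D - d) 0 with e | e
  · rw [e] at h'
    rw [show ξ = ψ from sub_eq_zero.1 h'.eq_zero.1]; exact hψ
  · obtain ⟨-, d', -, -, -, -, h3', -, -, -, hd', -, -⟩ := Rest.step hG ht h' e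
    omega

theorem Rest.six_pos {ξ : G → ℂ} (h : Rest t ξ 6 2) : Cfsg.IsIrrCharacter G ξ := by
  obtain ⟨ψ, d, v, hψ, -, -, h3, hmod, hlow, hor, hdD, -, h'⟩ := Rest.step hG ht h (by norm_num)
  rcases eq_or_ne (6 - d) 0 with e | e
  · rw [e] at h'
    rw [show ξ = ψ from sub_eq_zero.1 h'.eq_zero.1]; exact hψ
  · obtain ⟨-, d', -, -, -, -, h3', -, -, -, hd', -, -⟩ := Rest.step hG ht h' e
    have hd3 : d = 3 := by omega
    subst hd3
    have := (Rest.three hG ht h').2
    omega

theorem Rest.six_neg {ξ : G → ℂ} (h : Rest t ξ 6 (-2)) :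
    ∃ a b : G → ℂ, Cfsg.IsIrrCharacter G a ∧ a 1 = 3 ∧ Cfsg.IsIrrCharacter G b ∧ b 1 = 3 ∧
      ξ = a + b := by
  obtain ⟨ψ, d, v, hψ, hd, -, h3, hmod, hlow, hor, hdD, -, h'⟩ := Rest.step hG ht h (by norm_num)
  have hb := Rest.bound hG ht _ h'
  have hd3 : d = 3 := by omega
  subst hd3
  refine ⟨ψ, ξ - ψ, hψ, by rw [hd]; norm_num, (Rest.three hG ht h').1, by rw [h'.deg]; norm_num, ?_⟩
  rw [add_sub_cancel]

theorem Rest.seven {ξ : G → ℂ} (h : Rest t ξ 7 (-1)) :
    ∃ a b : G → ℂ, Cfsg.IsIrrCharacter G a ∧ a 1 = 3 ∧ Cfsg.IsIrrCharacter G b ∧ b 1 = 4 ∧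
      ξ = a + b := by
  obtain ⟨ψ, d, v, hψ, hd, -, h3, hmod, hlow, hor, hdD, -, h'⟩ := Rest.step hG ht h (by norm_num)
  have hb := Rest.bound hG ht _ h'
  have hd34 : d = 3 ∨ d = 4 := by omega
  rcases hd34 with rfl | rfl
  · exact ⟨ψ, ξ - ψ, hψ, by rw [hd]; norm_num, Rest.small hG ht h' (by norm_num) (by norm_num),
      by rw [h'.deg]; norm_num, (add_sub_cancel ψ ξ).symm⟩
  · exact ⟨ξ - ψ, ψ, (Rest.three hG ht h').1, by rw [h'.deg]; norm_num, hψ, by rw [hd]; norm_num,
      (sub_add_cancel ξ ψ).symm⟩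

theorem Rest.ten {ξ : G → ℂ} (h : Rest t ξ 10 (-2)) :
    ∃ η : G → ℂ, Cfsg.IsIrrCharacter G η ∧ η 1 = 4 := by
  obtain ⟨ψ, d, v, hψ, hd, -, h3, hmod, hlow, hor, hdD, -, h'⟩ := Rest.step hG ht h (by norm_num)
  have hb := Rest.bound hG ht _ h'
  have hd34 : d = 3 ∨ d = 4 := by omega
  rcases hd34 with rfl | rfl
  · rw [show (10 : ℕ) - 3 = 7 from rfl, show (-2 : ℤ) - v = -1 by omega] at h'
    obtain ⟨-, b, -, -, hb', hb4, -⟩ := Rest.seven hG ht h'
    exact ⟨b, hb', hb4⟩
  · exact ⟨ψ, hψ, by rw [hd]; norm_num⟩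

omit hG ht in
/-- Removing the trivial constituents. -/
theorem exists_rest {ξ : G → ℂ} (hξ : Cfsg.IsCharacter G ξ) {D : ℕ} (hD : ξ 1 = D) {V : ℤ}
    (hV : ξ t = V) : ∃ k : ℕ, k ≤ D ∧ Cfsg.classInner ξ (fun _ => 1) = k ∧
      Rest t (ξ - (k : ℂ) • fun _ => (1 : ℂ)) (D - k) (V - k) := by
  obtain ⟨k, hk⟩ := classInner_character_irr hξ isIrr_one
  have hc : Cfsg.IsCharacter G (ξ - (k : ℂ) • fun _ => (1 : ℂ)) := by
    refine isCharacter_of_classInner (fun g x => ?_) fun φ => ?_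
    · simp only [Pi.sub_apply, Pi.smul_apply, isClassFunction_of_isCharacter hξ g x]
    rw [classInner_sub_left, classInner_smul_left]
    by_cases e : (φ : G → ℂ) = fun _ => 1
    · exact ⟨0, by rw [e, hk, classInner_isIrr_self isIrr_one, mul_one, sub_self, Nat.cast_zero]⟩
    · obtain ⟨m, hm⟩ := classInner_character_irr hξ φ.2
      exact ⟨m, by rw [hm, classInner_isIrr_ne isIrr_one φ.2 (Ne.symm e), mul_zero, sub_zero]⟩
  obtain ⟨e, he⟩ := exists_degree hc
  have hDe : D = e + k := Nat.cast_injective (R := ℂ) (by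
    rw [Nat.cast_add, ← hD, ← he, Pi.sub_apply, Pi.smul_apply, smul_eq_mul, mul_one, sub_add_cancel])
  refine ⟨k, by omega, hk, hc, ?_, by rw [he, hDe, Nat.add_sub_cancel], ?_⟩
  · rw [classInner_sub_left, classInner_smul_left, hk, classInner_isIrr_self isIrr_one, mul_one,
      sub_self]
  · rw [Pi.sub_apply, Pi.smul_apply, hV, smul_eq_mul, mul_one, Int.cast_sub, Int.cast_natCast]

theorem three_value {χ : G → ℂ} (hχ : Cfsg.IsIrrCharacter G χ) (hd : χ 1 = 3) : χ t = -1 := by
  obtain ⟨d, v, hd', hv, -, hmod, hlow, hor⟩ :=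
    vals hG ht hχ (ne_one_of_degree (d := 3) (by exact_mod_cast hd) (by norm_num))
  have hd3 : d = 3 := Nat.cast_injective (R := ℂ) (by rw [← hd', hd]; norm_num)
  rw [hv, show v = -1 by omega]; norm_num

theorem no_nine {ξ : G → ℂ} (hξ : Cfsg.IsCharacter G ξ) (h1 : Cfsg.classInner ξ ξ = 1)
    (hd : ξ 1 = 9) (hv : ξ t = 1) : False := by
  have hirr := isIrr_of_classInner_self hξ h1
  rcases hG.hyp ξ hirr (ne_one_of_degree (d := 9) (by exact_mod_cast hd) (by norm_num)) with e | e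
  · rw [hd, hv] at e; norm_num at e
  · rw [hv] at e; norm_num at e

/-- The symmetric square in degree three. -/
theorem sym_three {χ : G → ℂ} (hχ : Cfsg.IsIrrCharacter G χ) (hd : χ 1 = 3) :
    Cfsg.IsCharacter G (χ * χ - cj χ) ∧ (χ * χ - cj χ) 1 = 6 ∧ (χ * χ - cj χ) t = 2 ∧
      Cfsg.classInner (χ * χ - cj χ) (fun _ => 1) = Cfsg.classInner χ (cj χ) := by
  have hv := three_value hG ht hχ hd
  refine ⟨?_, by simp [cj, hd, map_ofNat]; norm_num, by simp [cj, hv, map_ofNat]; norm_num, ?_⟩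
  · have h1 := isCharacter_sym (isCharacter_of_isIrr hχ)
    convert h1 using 1
    funext g
    rw [sq_three (perfect hG) (isCharacter_of_isIrr hχ) hd g]
    simp [cj]
    ring
  · rw [classInner_sub_left, ip_degree (isIrr_cj hχ) isIrr_one (by simp [cj, hd, map_ofNat]), sub_zero]
    exact ip_eq fun g => by simp [cj]

/-- In the real case the square is `1 + χ + F`. -/
theorem exists_five {χ : G → ℂ} (hχ : Cfsg.IsIrrCharacter G χ) (hd : χ 1 = 3) (hreal : cj χ = χ) :
    Cfsg.IsIrrCharacter G (χ * χ - χ - 1) ∧ (χ * χ - χ - 1) 1 = 5 := by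
  obtain ⟨hS, hS1, hSt, hSone⟩ := sym_three hG ht hχ hd
  obtain ⟨k, hk, hk1, hR⟩ := exists_rest (D := 6) (V := 2) hS (by exact_mod_cast hS1)
    (by exact_mod_cast hSt)
  rw [hSone, hreal, classInner_isIrr_self hχ] at hk1
  have : k = 1 := by exact_mod_cast hk1.symm
  subst this
  rw [hreal, Nat.cast_one, one_smul, show (fun _ : G => (1 : ℂ)) = 1 from rfl] at hR
  exact ⟨Rest.small hG ht hR (by norm_num) (by norm_num), by simp [hd]; norm_num⟩

/-- No degree three character is non-real. -/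
theorem three_real {χ : G → ℂ} (hχ : Cfsg.IsIrrCharacter G χ) (hd : χ 1 = 3) : cj χ = χ := by
  classical
  by_contra hcx
  have hperf := perfect hG
  have hv := three_value hG ht hχ hd
  have hcj := isIrr_cj hχ
  obtain ⟨hS, hS1, hSt, hSone⟩ := sym_three hG ht hχ hd
  have hSirr : Cfsg.IsIrrCharacter G (χ * χ - cj χ) := by
    refine Rest.six_pos hG ht ⟨hS, ?_, by exact_mod_cast hS1, by exact_mod_cast hSt⟩
    rw [hSone]; exact classInner_isIrr_ne hχ hcj (Ne.symm hcx)
  set S := χ * χ - cj χ with hSdef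
  set ψ := χ * cj χ - 1 with hψdef
  have hSc : Cfsg.classInner S (cj χ) = 0 := ip_degree hSirr hcj (by rw [hS1]; simp [cj, hd, map_ofNat])
  have hone : Cfsg.classInner (χ * cj χ) 1 = 1 :=
    (ip_eq fun g => by simp [cj]).trans (classInner_isIrr_self hχ)
  have hone' : Cfsg.classInner 1 (χ * cj χ) = 1 := by
    rw [classInner_conj_symm, hone, map_one]
  have hψirr : Cfsg.IsIrrCharacter G ψ := by
    refine isIrr_of_classInner_self (split (isCharacter_mul (isCharacter_of_isIrr hχ)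
      (isCharacter_of_isIrr hcj)) isIrr_one' (by rw [hone]; exact one_ne_zero)) ?_
    have h2 : Cfsg.classInner (χ * cj χ) (χ * cj χ) = 2 := by
      rw [ip_eq (c := S + cj χ) (d := S + cj χ) fun g => by simp [hSdef, cj]; ring,
        classInner_add_left, classInner_add_right, classInner_add_right, hSc, ip_symm_zero hSc,
        classInner_isIrr_self hSirr, classInner_isIrr_self hcj]
      norm_num
    rw [classInner_sub_left, classInner_sub_right, classInner_sub_right, h2, hone, hone',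
      classInner_isIrr_self isIrr_one']
    norm_num
  have hψ1 : ψ 1 = 8 := by simp [hψdef, cj, hd, map_ofNat]; norm_num
  -- no real character of degree three
  have hnoreal : ∀ φ : G → ℂ, Cfsg.IsIrrCharacter G φ → φ 1 = 3 → cj φ = φ → False := by
    intro φ hφ hφd hφr
    obtain ⟨hF, hF1⟩ := exists_five hG ht hφ hφd hφr
    refine no_nine hG ht (isCharacter_mul (isCharacter_of_isIrr hχ) (isCharacter_of_isIrr hφ)) ?_
      (by simp [hd, hφd]; norm_num) (by simp [hv, three_value hG ht hφ hφd])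
    have hφr' : ∀ g, conj (φ g) = φ g := fun g => congrFun hφr g
    rw [ip_eq (c := 1 + ψ) (d := 1 + φ + (φ * φ - φ - 1)) fun g => by
        simp [hψdef, cj, hφr']; ring,
      classInner_add_left, classInner_add_right, classInner_add_right, classInner_add_right,
      classInner_add_right, classInner_isIrr_self isIrr_one',
      ip_degree isIrr_one' hφ (by simp [hφd]),
      ip_degree isIrr_one' hF (by rw [hF1, one_apply']; norm_num),
      ip_degree hψirr isIrr_one' (by rw [hψ1, one_apply']; norm_num),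
      ip_degree hψirr hφ (by rw [hψ1, hφd]; norm_num),
      ip_degree hψirr hF (by rw [hψ1, hF1]; norm_num)]
    norm_num
  -- a character of degree four
  obtain ⟨η, hη, hη4⟩ : ∃ η : G → ℂ, Cfsg.IsIrrCharacter G η ∧ η 1 = 4 := by
    have hne : Cfsg.classInner (χ * S) ψ ≠ 0 := by
      rw [ip_eq (c := S) (d := cj S * χ + S) fun g => by simp [hψdef, hSdef, cj]; ring,
        classInner_add_right, classInner_isIrr_self hSirr]
      obtain ⟨m, hm⟩ := classInner_characters (isCharacter_of_isIrr hSirr)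
        (isCharacter_mul (isCharacter_of_isIrr (isIrr_cj hSirr)) (isCharacter_of_isIrr hχ))
      rw [hm]
      exact_mod_cast Nat.succ_ne_zero m
    refine Rest.ten hG ht (ξ := χ * S - ψ) ⟨split (isCharacter_mul (isCharacter_of_isIrr hχ) hS)
      hψirr hne, ?_, by rw [Pi.sub_apply, Pi.mul_apply, hd, hS1, hψ1]; norm_num,
      by rw [Pi.sub_apply, Pi.mul_apply, hv, hSt]; simp [hψdef, cj, hv, map_ofNat]⟩
    rw [classInner_sub_left, ip_degree hψirr isIrr_one (by rw [hψ1]; norm_num), sub_zero,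
      ip_eq (c := S) (d := cj χ) fun g => by simp [cj]; ring, hSc]
  have hηv : η t = 0 := by
    obtain ⟨d, v, hd', hv', -, hmod, hlow, hor⟩ :=
      vals hG ht hη (ne_one_of_degree (d := 4) (by exact_mod_cast hη4) (by norm_num))
    have hd4 : d = 4 := Nat.cast_injective (R := ℂ) (by rw [← hd', hη4]; norm_num)
    rw [hv', show v = 0 by omega]; norm_num
  -- its exterior square
  set L : G → ℂ := fun g => (η g * η g - η (g * g)) / 2 with hL
  have hLc : Cfsg.IsCharacter G L := isCharacter_alt (isCharacter_of_isIrr hη)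
  have hL1 : L 1 = ((6 : ℕ) : ℂ) := by simp [hL, hη4]; norm_num
  have hLt : L t = ((-2 : ℤ) : ℂ) := by simp [hL, ht, hηv, hη4]; norm_num
  obtain ⟨k, hk, hk1, hR⟩ := exists_rest hLc hL1 hLt
  have hb := Rest.bound hG ht _ hR
  obtain rfl : k = 0 := by omega
  rw [Nat.cast_zero, zero_smul, sub_zero] at hR
  obtain ⟨a, b, ha, ha3, hb', hb3, hab⟩ :=
    Rest.six_neg hG ht (ξ := L) (by simpa using hR)
  have hba : b = cj a := by
    by_contra hne
    have h1 : Cfsg.classInner L (cj a) = conj (Cfsg.classInner L a) := by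
      rw [← classInner_conj_conj]
      exact ip_eq fun g => by rw [(alt_four hperf (isCharacter_of_isIrr hη) hη4 g).1, cj_apply]
    rw [hab, classInner_add_left, classInner_add_left,
      classInner_isIrr_ne hb' (isIrr_cj ha) hne,
      classInner_isIrr_ne ha (isIrr_cj ha) (fun e => hnoreal a ha ha3 e.symm),
      classInner_isIrr_self ha] at h1
    by_cases hab' : b = a
    · rw [hab', classInner_isIrr_self ha] at h1; norm_num [map_ofNat] at h1
    · rw [classInner_isIrr_ne hb' ha hab'] at h1; norm_num at h1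
  -- two ways to compute its exterior square
  have h2 : η * cj η - 1 = a * cj a + cj a + a := by
    funext g
    have h4 := (alt_four hperf (isCharacter_of_isIrr hη) hη4 g).2
    have hg : L g = a g + conj (a g) := by rw [hab, hba]; rfl
    have hgg : L (g * g) = a (g * g) + conj (a (g * g)) := by rw [hab, hba]; rfl
    simp only [hL] at hg hgg
    rw [hg, hgg, sq_three hperf (isCharacter_of_isIrr ha) ha3 g] at h4
    simp only [Pi.sub_apply, Pi.mul_apply, Pi.add_apply, Pi.one_apply, cj_apply, ← h4, map_sub,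
      map_mul, map_ofNat, Complex.conj_conj]
    ring
  have h3 := congrArg (fun f => Cfsg.classInner f 1) h2
  simp only [classInner_sub_left, classInner_add_left] at h3
  rw [ip_eq (a := η * cj η) (c := η) (d := η) fun g => by simp [cj],
    ip_eq (a := a * cj a) (c := a) (d := a) fun g => by simp [cj],
    classInner_isIrr_self hη, classInner_isIrr_self ha, classInner_isIrr_self isIrr_one',
    ip_degree (isIrr_cj ha) isIrr_one' (by simp [cj, ha3, map_ofNat]),
    ip_degree ha isIrr_one' (by simp [ha3])] at h3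
  norm_num at h3

end Involution

end CfsgLib.SmallValue
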